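import Groth.Agent.H13CI.BlowQR
import Groth.Agent.H26Blow.Affine
import Groth.Agent.H26Blow.Exists
import Groth.Agent.H06QR.Regular
import Groth.Agent.S1680
import Groth.Prelude.Def_Mor2

/-!
# The exceptional divisor of the blow-up in a regular centre is smooth over the centre
-/

set_option autoImplicit false
set_option linter.style.haveILetI false
set_option backward.isDefEq.respectTransparency false

universe u

open CategoryTheory CategoryTheory.Limits AlgebraicGeometry TopologicalSpace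
open Groth.Agent.H26Blow

namespace Groth.Agent.H13CI.ExcSmooth

/-- Closed immersions with the same ideal agree. -/
theorem exists_iso_of_ker_eq {X Y Z : Scheme.{u}} (f : X ⟶ Z) (g : Y ⟶ Z) [IsClosedImmersion f]
    [IsClosedImmersion g] (h : f.ker = g.ker) : ∃ e : X ≅ Y, e.hom ≫ g = f :=
  ⟨⟨IsClosedImmersion.lift g f h.ge, IsClosedImmersion.lift f g h.le,
    (cancel_mono f).1 (by simp [IsClosedImmersion.lift_fac]),
    (cancel_mono g).1 (by simp [IsClosedImmersion.lift_fac])⟩, IsClosedImmersion.lift_fac _ _ _⟩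

theorem ker_SpecMap_mk {R : Type u} [CommRing R] (J : Ideal R) :
    (Spec.map (CommRingCat.ofHom (Ideal.Quotient.mk J))).ker = centre J := by
  haveI : IsClosedImmersion (Spec.map (CommRingCat.ofHom (Ideal.Quotient.mk J))) :=
    IsClosedImmersion.spec_of_surjective _ Ideal.Quotient.mk_surjective
  apply Scheme.IdealSheafData.ext_of_isAffine
  rw [ideal_centre_top, Scheme.Hom.ker_apply]
  change RingHom.ker ((Spec.map (CommRingCat.ofHom (Ideal.Quotient.mk J))).appTop).hom = _
  ext z
  obtain ⟨z, rfl⟩ := (ConcreteCategory.bijective_of_isIso (Scheme.ΓSpecIso (CommRingCat.of R)).inv).2 z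
  rw [RingHom.mem_ker, Ideal.mem_map_iff_of_surjective _
    (ConcreteCategory.bijective_of_isIso (Scheme.ΓSpecIso (CommRingCat.of R)).inv).2]
  have hn := congrArg (fun φ => φ.hom z) (Scheme.ΓSpecIso_inv_naturality (CommRingCat.ofHom (Ideal.Quotient.mk J)))
  simp only [CommRingCat.hom_comp, RingHom.comp_apply] at hn
  rw [← hn, map_eq_zero_iff _ (ConcreteCategory.bijective_of_isIso (Scheme.ΓSpecIso _).inv).1]
  exact ⟨fun h => ⟨z, Ideal.Quotient.eq_zero_iff_mem.1 h, rfl⟩,
    fun ⟨w, hw, e⟩ => Ideal.Quotient.eq_zero_iff_mem.2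
      ((ConcreteCategory.bijective_of_isIso (Scheme.ΓSpecIso (CommRingCat.of R)).inv).1 e ▸ hw)⟩

theorem comap_fromSpec {X : Scheme.{u}} (J : X.IdealSheafData) {U : X.Opens} (hU : IsAffineOpen U) :
    J.comap hU.fromSpec = centre (J.ideal ⟨U, hU⟩) := by
  apply Scheme.IdealSheafData.ext_of_isAffine
  rw [ideal_centre_top, _root_.H29Blow.ideal_comap J hU.fromSpec ⟨U, hU⟩ ⟨⊤, isAffineOpen_top _⟩
    hU.fromSpec_preimage_self.ge]
  congr 2
  simp [Scheme.Hom.appLE, hU.fromSpec_app_self, ← Functor.map_comp]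
  rfl

theorem centre_comap {A B : Type u} [CommRing A] [CommRing B] (I : Ideal A) (φ : A →+* B) :
    (centre I).comap (Spec.map (CommRingCat.ofHom φ)) = centre (I.map φ) := by
  apply Scheme.IdealSheafData.ext_of_isAffine
  rw [ideal_centre_top, ideal_centre_comap]
  rfl

theorem mem_basicOpen_gen {A : Type u} [CommRing A] {c : ℕ} (f : Fin c → A) (I : Ideal A)
    (hI : Ideal.span (Set.range f) = I) (w : Proj (gr I)) :
    ∃ j, w ∈ Proj.basicOpen (gr I) (T I (BlowQR.gen f I hI j)) := by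
  obtain ⟨a, ha⟩ := Opens.mem_iSup.1 ((iSup_basicOpen I).ge (Set.mem_univ w))
  by_contra hne
  simp only [not_exists, Proj.mem_basicOpen, not_not] at hne
  rw [Proj.mem_basicOpen] at ha
  obtain ⟨p, hp⟩ := Ideal.mem_span_range_iff_exists_fun.1 (hI.symm ▸ a.2 : (a : A) ∈ Ideal.span (Set.range f))
  have hT : T I a = ∑ j, algebraMap A (reesAlgebra I) (p j) * T I (BlowQR.gen f I hI j) := by
    apply Subtype.ext
    push_cast
    simp only [coe_T, Polynomial.algebraMap_eq, Polynomial.C_mul_monomial, ← map_sum, hp]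
  exact ha (hT ▸ Submodule.sum_mem _ fun j _ => Ideal.mul_mem_left _ _ (hne j))

/-- Around every point of the exceptional divisor the projection to a regular centre is smooth. -/
theorem exists_smooth_nhd {X X' Y : Scheme.{u}} (i : Y ⟶ X) [IsClosedImmersion i]
    (b : X' ⟶ X) (hb : BlowUp.IsBlowUp b i.ker) (g : (BlowUp.exceptional b i.ker).subscheme ⟶ Y)
    (hg : g ≫ i = (BlowUp.exceptional b i.ker).subschemeι ≫ b) (y : (BlowUp.exceptional b i.ker).subscheme)
    {U : X.Opens} (hU : IsAffineOpen U) (hy : i (g y) ∈ U) {c : ℕ} (f : Fin c → Γ(X, U))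
    (hI : Ideal.span (Set.range f) = i.ker.ideal ⟨U, hU⟩) (hq : CAlgX.IsQuasiRegular f) :
    ∃ (Q : Scheme.{u}) (κ : Q ⟶ (BlowUp.exceptional b i.ker).subscheme),
      IsOpenImmersion κ ∧ y ∈ Set.range κ ∧ Smooth (κ ≫ g) := by
  let A := Γ(X, U)
  let I : Ideal A := i.ker.ideal ⟨U, hU⟩
  haveI := hU.isOpenImmersion_fromSpec
  have hP := S1680.result hU.fromSpec i.ker b hb
  rw [comap_fromSpec] at hP
  obtain ⟨e, he⟩ := exists_iso_of_isBlowUp (isBlowUp_π I) hP
  let ι := (BlowUp.exceptional b i.ker).subschemeι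
  have hby : b (ι y) ∈ Set.range hU.fromSpec := by
    rw [hU.range_fromSpec, ← Scheme.Hom.comp_apply, ← hg]
    exact hy
  obtain ⟨w, hw⟩ : ι y ∈ Set.range (pullback.snd hU.fromSpec b) := by
    rw [Scheme.Pullback.range_snd]
    exact hby
  obtain ⟨w, rfl⟩ := e.hom.homeomorph.surjective w
  obtain ⟨j, hj⟩ := mem_basicOpen_gen f I hI w
  rw [← opensRange_j] at hj
  obtain ⟨v, rfl⟩ := hj
  let a := BlowQR.gen f I hI j
  let k : Spec (CommRingCat.of (Alg I a)) ⟶ X' := H26Blow.j I a ≫ e.hom ≫ pullback.snd hU.fromSpec b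
  have hkb : k ≫ b = Spec.map (CommRingCat.ofHom (algebraMap A (Alg I a))) ≫ hU.fromSpec := by
    rw [← j_π]
    simp only [k, Category.assoc, ← pullback.condition]
    rw [reassoc_of% he]
  let J : Ideal (Alg I a) := Ideal.span {algebraMap A (Alg I a) (f j)}
  have hcomap : (BlowUp.exceptional b i.ker).comap k = centre J := by
    rw [← Scheme.IdealSheafData.comap_comp, hkb, Scheme.IdealSheafData.comap_comp, comap_fromSpec, centre_comap]
    exact congrArg centre (map_eq_span I a)
  let mJ := Spec.map (CommRingCat.ofHom (R := Alg I a) (S := Alg I a ⧸ J) (Ideal.Quotient.mk J))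
  haveI : IsClosedImmersion mJ := IsClosedImmersion.spec_of_surjective _ Ideal.Quotient.mk_surjective
  obtain ⟨e₁, he₁⟩ := exists_iso_of_ker_eq mJ (pullback.fst k ι) (by
    rw [ker_SpecMap_mk, Scheme.IdealSheafData.ker_fst_of_isClosedImmersion,
      Scheme.IdealSheafData.ker_subschemeι, hcomap])
  let mI := Spec.map (CommRingCat.ofHom (Ideal.Quotient.mk I))
  haveI : IsClosedImmersion mI := IsClosedImmersion.spec_of_surjective _ Ideal.Quotient.mk_surjective
  obtain ⟨e₂, he₂⟩ := exists_iso_of_ker_eq mI (pullback.fst hU.fromSpec i) (by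
    rw [ker_SpecMap_mk, Scheme.IdealSheafData.ker_fst_of_isClosedImmersion, comap_fromSpec])
  let κ := e₁.hom ≫ pullback.snd k ι
  let l := e₂.hom ≫ pullback.snd hU.fromSpec i
  refine ⟨_, κ, inferInstance, ?_, ?_⟩
  · obtain ⟨z, hz⟩ : y ∈ Set.range (pullback.snd k ι) := by
      rw [Scheme.Pullback.range_snd]
      exact ⟨v, hw⟩
    obtain ⟨z, rfl⟩ := e₁.hom.homeomorph.surjective z
    exact ⟨z, hz⟩
  · have hfac : κ ≫ g = Spec.map (CommRingCat.ofHom (R := A ⧸ I) (S := Alg I a ⧸ J) (BlowQR.redBase f I hI j)) ≫ l := by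
      refine (cancel_mono i).1 ?_
      show (κ ≫ g) ≫ i = _
      rw [Category.assoc, hg]
      simp only [κ, l, Category.assoc, ← pullback.condition]
      rw [← pullback.condition_assoc, reassoc_of% he₁, hkb, reassoc_of% he₂, ← Spec.map_comp_assoc,
        ← Spec.map_comp_assoc]
      rfl
    rw [hfac]
    haveI : Smooth (Spec.map (CommRingCat.ofHom (R := A ⧸ I) (S := Alg I a ⧸ J) (BlowQR.redBase f I hI j))) :=
      (HasRingHomProperty.Spec_iff (P := @Smooth)).2 (BlowQR.smooth_red f I hI j hq)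
    infer_instance

/-- The exceptional divisor over a regular centre is smooth over it. -/
theorem smooth_exceptional {X X' Y : Scheme.{u}} (i : Y ⟶ X) (hi : Mor2.IsRegularClosedImmersion i)
    (b : X' ⟶ X) (hb : BlowUp.IsBlowUp b i.ker) (g : (BlowUp.exceptional b i.ker).subscheme ⟶ Y)
    (hg : g ≫ i = (BlowUp.exceptional b i.ker).subschemeι ≫ b) : Smooth g := by
  haveI := hi.1
  have key : ∀ y, ∃ (Q : Scheme.{u}) (κ : Q ⟶ (BlowUp.exceptional b i.ker).subscheme),
      IsOpenImmersion κ ∧ y ∈ Set.range κ ∧ Smooth (κ ≫ g) := fun y => by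
    obtain ⟨U, hU, hy, rs, hrs, hI⟩ := hi.2 (g y)
    refine exists_smooth_nhd i b hb g hg y hU hy rs.get ?_
      (H06QR.Regular.isQuasiRegular_of_isWeaklyRegular _ (by rw [List.ofFn_get]; exact hrs.toIsWeaklyRegular))
    rw [hI, Ideal.ofList, Set.range_list_get]
  choose Q κ hκ hmem hsm using key
  let 𝒰 : ((BlowUp.exceptional b i.ker).subscheme).OpenCover :=
    { I₀ := (BlowUp.exceptional b i.ker).subscheme
      X := Q
      f := κ
      mem₀ := by
        rw [Scheme.presieve₀_mem_precoverage_iff]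
        exact ⟨fun y => ⟨y, hmem y⟩, hκ⟩ }
  exact IsZariskiLocalAtSource.of_openCover 𝒰 hsm

end Groth.Agent.H13CI.ExcSmooth
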