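import Groth.Agent.H26Blow.Chart
import Groth.Prelude.Def_CAlgX
import Mathlib.RingTheory.MvPolynomial.Homogeneous
import Mathlib.RingTheory.Smooth.StandardSmooth
import Mathlib

/-!
# The exceptional divisor in a chart of the blow-up in a quasi-regular sequence
-/

set_option autoImplicit false
set_option linter.style.haveILetI false
set_option backward.isDefEq.respectTransparency false

universe u

open MvPolynomial Groth.Agent.H26Blow

namespace Groth.Agent.H13CI.BlowQR

variable {A : Type u} [CommRing A] {c : ℕ} (f : Fin c → A) (I : Ideal A) (hI : Ideal.span (Set.range f) = I)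
  (j : Fin c)

include hI in
theorem mem_I (i : Fin c) : f i ∈ I := hI ▸ Ideal.subset_span ⟨i, rfl⟩

/-- The generator giving the chart. -/
abbrev gen : I := ⟨f j, mem_I f I hI j⟩

/-- Every element of a chart is a fraction with numerator in the matching power of the ideal. -/
theorem exists_pow_num (a : I) (z : Alg I a) : ∃ (m : ℕ) (x : A), x ∈ I ^ m ∧
    (z : Localization.Away (a : A)) * algebraMap A _ (a : A) ^ m = algebraMap A _ x := by
  obtain ⟨w, rfl⟩ := (chartEquiv I a).surjective z
  obtain ⟨n, x, hx, rfl⟩ := HomogeneousLocalization.Away.mk_surjective (gr I) (T_mem I a) w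
  exact ⟨n, _, (mem_reesAlgebra_iff I _).1 x.2 n, toLoc_mk I a n x hx⟩

/-- The presentation of the chart by the other fractions. -/
noncomputable def pres : MvPolynomial {i : Fin c // i ≠ j} A →ₐ[A] Alg I (gen f I hI j) :=
  aeval fun i => frac' i
where
  /-- `f i / f j`. -/
  frac' (i : {i : Fin c // i ≠ j}) : Alg I (gen f I hI j) :=
    ⟨IsLocalization.mk' (Localization.Away (f j)) (f i.1) ⟨f j, Submonoid.mem_powers _⟩,
      Algebra.subset_adjoin ⟨f i.1, mem_I f I hI i.1, rfl⟩⟩

theorem pres_surjective : Function.Surjective (pres f I hI j) := by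
  classical
  rw [← AlgHom.range_eq_top, eq_top_iff]
  rintro ⟨z, hz⟩ -
  suffices h : z ∈ ((pres f I hI j).range.map (Alg I (gen f I hI j)).val) by
    obtain ⟨w, hw, hwz⟩ := h
    rwa [show (⟨z, hz⟩ : Alg I (gen f I hI j)) = w from Subtype.ext hwz.symm]
  refine Algebra.adjoin_le ?_ hz
  rintro _ ⟨x, hx, rfl⟩
  obtain ⟨w, rfl⟩ := Ideal.mem_span_range_iff_exists_fun.1 (hI ▸ hx : x ∈ Ideal.span (Set.range f))
  refine ⟨pres f I hI j (MvPolynomial.C (w j) +
    ∑ i : {i : Fin c // i ≠ j}, MvPolynomial.C (w i.1) * MvPolynomial.X i), ⟨_, rfl⟩, ?_⟩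
  symm
  rw [IsLocalization.mk'_eq_iff_eq_mul]
  simp only [pres, map_add, map_sum, map_mul, MvPolynomial.aeval_C, MvPolynomial.aeval_X, add_mul, Finset.sum_mul,
    Subalgebra.coe_val, Subalgebra.coe_algebraMap]
  conv_lhs => rw [← Finset.add_sum_erase _ _ (Finset.mem_univ j)]
  congr 1
  rw [Finset.sum_subtype (Finset.univ.erase j) (p := fun i => i ≠ j) (by simp)]
  refine Finset.sum_congr rfl fun i _ => ?_
  rw [mul_assoc]
  congr 1
  exact (IsLocalization.mk'_spec (Localization.Away (f j)) (f i.1) _).symm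

variable {f I hI j}

/-- The exponent of the homogenisation. -/
noncomputable def homExp (n : ℕ) (d : {i : Fin c // i ≠ j} →₀ ℕ) : Fin c →₀ ℕ :=
  d.mapDomain Subtype.val + Finsupp.single j (n - d.degree)

theorem homExp_apply (n : ℕ) (d : {i : Fin c // i ≠ j} →₀ ℕ) (i : {i : Fin c // i ≠ j}) :
    homExp n d i.1 = d i := by
  simp [homExp, Finsupp.mapDomain_apply Subtype.val_injective, i.2.symm]

theorem degree_homExp (n : ℕ) (d : {i : Fin c // i ≠ j} →₀ ℕ) (h : d.degree ≤ n) :
    (homExp n d).degree = n := by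
  rw [homExp, map_add, Finsupp.degree_single, Finsupp.degree_mapDomain]
  omega

theorem coeff_mem (hq : CAlgX.IsQuasiRegular f) (p : MvPolynomial {i : Fin c // i ≠ j} A)
    (hp : pres f I hI j p ∈ Ideal.span {algebraMap A (Alg I (gen f I hI j)) (f j)}) (d : {i : Fin c // i ≠ j} →₀ ℕ) :
    p.coeff d ∈ I := by
  classical
  by_cases hd : d ∈ p.support
  swap
  · rw [MvPolynomial.notMem_support_iff.1 hd]; exact I.zero_mem
  let n := p.totalDegree
  have hle : ∀ e ∈ p.support, e.degree ≤ n := fun e he => MvPolynomial.le_totalDegree he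
  let P : MvPolynomial (Fin c) A := ∑ e ∈ p.support, MvPolynomial.monomial (homExp n e) (p.coeff e)
  have hPh : P.IsHomogeneous n := MvPolynomial.IsHomogeneous.sum _ _ _ fun e he =>
    MvPolynomial.isHomogeneous_monomial _ (degree_homExp n e (hle e he))
  let L := Localization.Away (f j)
  let α := algebraMap A L
  have hfrac : ∀ i, α (f i.1) = ((pres.frac' f I hI j i : Alg I (gen f I hI j)) : L) * α (f j) := fun i =>
    (IsLocalization.mk'_spec L (f i.1) _).symm
  have hP : α (MvPolynomial.eval f P) = ((pres f I hI j p : Alg I (gen f I hI j)) : L) * α (f j) ^ n := by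
    conv_rhs => rw [p.as_sum]
    simp only [P, map_sum, Finset.sum_mul, pres, MvPolynomial.aeval_monomial, MvPolynomial.eval_monomial,
      AddSubmonoidClass.coe_finset_sum, map_mul, Subalgebra.coe_mul, Subalgebra.coe_algebraMap]
    refine Finset.sum_congr rfl fun e he => ?_
    rw [mul_assoc]
    congr 1
    rw [homExp, Finsupp.prod_add_index' (fun _ => pow_zero _) (fun _ _ _ => pow_add _ _ _),
      Finsupp.prod_mapDomain_index (fun _ => pow_zero _) (fun _ _ _ => pow_add _ _ _),
      Finsupp.prod_single_index (by simp), map_mul, map_pow, map_finsuppProd]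
    rw [show (((e.prod fun i k => pres.frac' f I hI j i ^ k) : Alg I (gen f I hI j)) : L) =
      e.prod fun i k => ((pres.frac' f I hI j i : Alg I (gen f I hI j)) : L) ^ k from
      map_finsuppProd (Alg I (gen f I hI j)).val _ _]
    simp only [map_pow, hfrac, mul_pow, Finsupp.prod_mul]
    rw [mul_assoc]
    congr 1
    show (∏ i ∈ e.support, α (f j) ^ e i) * _ = _
    rw [Finset.prod_pow_eq_pow_sum, ← pow_add]
    congr 1
    have := hle e he
    rw [Finsupp.degree_apply] at this ⊢
    omega
  obtain ⟨w, hw⟩ := Ideal.mem_span_singleton'.1 hp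
  obtain ⟨m, x, hx, hwm⟩ := exists_pow_num I (gen f I hI j) w
  have h1 : α (MvPolynomial.eval f P * f j ^ m) = α (f j ^ (n + 1) * x) := by
    have hw' : (w : L) * α (f j) = (pres f I hI j p : Alg I (gen f I hI j)) := congrArg Subtype.val hw
    rw [map_mul, map_mul, map_pow, map_pow, hP, ← hw', ← hwm]
    ring
  obtain ⟨⟨_, N, rfl⟩, hN⟩ := (IsLocalization.eq_iff_exists (Submonoid.powers (f j)) L).1 h1
  have hN' : f j ^ N * (MvPolynomial.eval f P * f j ^ m) = f j ^ N * (f j ^ (n + 1) * x) := hN
  have hev : MvPolynomial.eval f (MvPolynomial.monomial (Finsupp.single j (N + m)) 1 * P) ∈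
      Ideal.span (Set.range f) ^ (N + m + n + 1) := by
    rw [map_mul, MvPolynomial.eval_monomial, one_mul, Finsupp.prod_single_index (by simp), pow_add (f j), mul_assoc,
      mul_comm (f j ^ m), hN', show N + m + n + 1 = N + (n + 1 + m) by omega, pow_add _ N, pow_add _ (n + 1)]
    have hfj : f j ∈ Ideal.span (Set.range f) := Ideal.subset_span ⟨j, rfl⟩
    exact Ideal.mul_mem_mul (Ideal.pow_mem_pow hfj N) (Ideal.mul_mem_mul (Ideal.pow_mem_pow hfj _) (hI ▸ hx))
  have := hq (N + m + n) _ ((MvPolynomial.isHomogeneous_monomial _ (Finsupp.degree_single _ _)).mul hPh) hev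
    (Finsupp.single j (N + m) + homExp n d)
  rw [MvPolynomial.coeff_monomial_mul, one_mul, hI] at this
  convert this using 1
  rw [MvPolynomial.coeff_sum, Finset.sum_eq_single d]
  · rw [MvPolynomial.coeff_monomial, if_pos rfl]
  · intro e _ hne
    rw [MvPolynomial.coeff_monomial, if_neg]
    exact fun h => hne (Finsupp.ext fun i => by
      rw [← homExp_apply n e i, ← homExp_apply n d i, h])
  · exact fun h => absurd hd h

variable (f I hI j)

/-- The structure map of the reduction of the chart. -/
noncomputable def redBase : A ⧸ I →+* Alg I (gen f I hI j) ⧸ Ideal.span {algebraMap A (Alg I (gen f I hI j)) (f j)} :=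
  Ideal.Quotient.lift I ((Ideal.Quotient.mk _).comp (algebraMap A _)) fun a ha =>
    Ideal.Quotient.eq_zero_iff_mem.2 ((map_eq_span I (gen f I hI j)).le (Ideal.mem_map_of_mem _ ha))

/-- The reduction of the chart is a polynomial ring over the centre. -/
noncomputable def redHom : MvPolynomial {i : Fin c // i ≠ j} (A ⧸ I) →+*
    Alg I (gen f I hI j) ⧸ Ideal.span {algebraMap A (Alg I (gen f I hI j)) (f j)} :=
  MvPolynomial.eval₂Hom
    (redBase f I hI j)
    fun i => Ideal.Quotient.mk _ (pres.frac' f I hI j i)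

theorem redHom_map (p : MvPolynomial {i : Fin c // i ≠ j} A) :
    redHom f I hI j (MvPolynomial.map (Ideal.Quotient.mk I) p) = Ideal.Quotient.mk _ (pres f I hI j p) := by
  suffices h : (redHom f I hI j).comp (MvPolynomial.map (Ideal.Quotient.mk I)) =
      (Ideal.Quotient.mk _).comp (pres f I hI j).toRingHom from RingHom.congr_fun h p
  refine MvPolynomial.ringHom_ext (fun r => ?_) (fun i => ?_)
  · rw [RingHom.comp_apply, RingHom.comp_apply, MvPolynomial.map_C, redHom, MvPolynomial.eval₂Hom_C, redBase,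
      Ideal.Quotient.lift_mk, AlgHom.toRingHom_eq_coe, RingHom.coe_coe, pres, MvPolynomial.aeval_C]
    rfl
  · rw [RingHom.comp_apply, RingHom.comp_apply, MvPolynomial.map_X, redHom, MvPolynomial.eval₂Hom_X',
      AlgHom.toRingHom_eq_coe, RingHom.coe_coe, pres, MvPolynomial.aeval_X]

theorem redHom_bijective (hq : CAlgX.IsQuasiRegular f) : Function.Bijective (redHom f I hI j) := by
  constructor
  · refine (injective_iff_map_eq_zero _).2 fun q hq0 => ?_
    obtain ⟨p, rfl⟩ := MvPolynomial.map_surjective (Ideal.Quotient.mk I) Ideal.Quotient.mk_surjective q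
    rw [redHom_map, Ideal.Quotient.eq_zero_iff_mem] at hq0
    ext d
    rw [MvPolynomial.coeff_map, MvPolynomial.coeff_zero, Ideal.Quotient.eq_zero_iff_mem]
    exact coeff_mem hq p hq0 d
  · intro z
    obtain ⟨z, rfl⟩ := Ideal.Quotient.mk_surjective z
    obtain ⟨p, rfl⟩ := pres_surjective f I hI j z
    exact ⟨_, redHom_map f I hI j p⟩

/-- The reduction of the chart is smooth over the centre. -/
theorem smooth_red (hq : CAlgX.IsQuasiRegular f) :
    @RingHom.Smooth (A ⧸ I) (Alg I (gen f I hI j) ⧸ Ideal.span {algebraMap A (Alg I (gen f I hI j)) (f j)})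
      inferInstance inferInstance (redBase f I hI j) := by
  let e := RingEquiv.ofBijective _ (redHom_bijective f I hI j hq)
  have h : e.toRingHom.comp (algebraMap (A ⧸ I) (MvPolynomial {i : Fin c // i ≠ j} (A ⧸ I))) = redBase f I hI j :=
    RingHom.ext fun r => MvPolynomial.eval₂Hom_C _ _ r
  rw [← h]
  exact RingHom.Smooth.respectsIso.1 _ e (RingHom.smooth_algebraMap.mpr ⟨inferInstance, inferInstance⟩)

end Groth.Agent.H13CI.BlowQR
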