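import Groth.Agent.H13CI.Scheme
import Groth.Agent.H9CI.SyntomicField
import Groth.Agent.H9CI.Nhd
import Groth.Agent.H9CI.Syntomic
import Groth.Agent.S9169
import Groth.Agent.S9364

/-!
# Syntomic morphisms = flat, locally of finite presentation, complete intersection fibres
-/

set_option autoImplicit false
set_option linter.style.haveILetI false

universe u

open CategoryTheory CategoryTheory.Limits AlgebraicGeometry IsLocalRing
open scoped TensorProduct

namespace Groth.Agent.H13CI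

/-- Over a field the completion definition agrees with the presentation definition. -/
theorem isCIOver_iff_isCI {k S : Type u} [Field k] [CommRing S] [IsLocalRing S] [Algebra k S]
    [Algebra.EssFiniteType k S] : Synt.IsCIOver k S ↔ Pi1.IsCompleteIntersection S := by
  haveI : IsNoetherianRing S := Algebra.EssFiniteType.isNoetherianRing k S
  constructor
  · rintro ⟨R, _, _, _, -, rs, hrs, hreg, ⟨e⟩⟩
    haveI : IsLocalRing (R ⧸ Ideal.ofList rs) := e.toRingEquiv.isLocalRing
    haveI : IsNoetherianRing (R ⧸ Ideal.ofList rs) := inferInstance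
    exact isCI_of_ringEquiv e.toRingEquiv.symm ((isCI_quotient_iff _).mpr ⟨rs, rfl, hreg⟩)
  · intro h
    obtain ⟨A, _, a, _, ⟨e⟩⟩ := H9CI.exists_finiteType_localization (k := k) S
    obtain ⟨n, φ, hφ⟩ := Algebra.FiniteType.iff_quotient_mvPolynomial''.mp (inferInstance : Algebra.FiniteType k A)
    obtain ⟨f, hf, -⟩ := H9CI.exists_localization_presentation φ hφ a
    let g := e.symm.toAlgHom.comp f
    have hg : Function.Surjective g := e.symm.surjective.comp hf
    obtain ⟨rs, hrs, hreg⟩ := exists_regular_ker g.toRingHom hg h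
    have hmem : ∀ r ∈ rs, r ∈ maximalIdeal _ := fun r hr =>
      le_maximalIdeal (RingHom.ker_ne_top g.toRingHom) (hrs ▸ Ideal.subset_span hr)
    exact ⟨_, inferInstance, inferInstance, inferInstance,
      H9CI.essFiniteType_localization (a.comap φ.toRingHom), rs, hmem, hreg,
      ⟨(Ideal.quotientKerAlgEquivOfSurjective hg).symm.trans
        (Ideal.quotientEquivAlgOfEq k (show RingHom.ker g = Ideal.ofList rs from hrs.symm))⟩⟩

/-- The fibre stalk in an affine chart. -/
theorem isCI_fiberStalk_iff_chart {X S : Scheme.{u}} (f : X ⟶ S) [LocallyOfFiniteType f] (U : X.affineOpens)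
    (V : S.affineOpens) (e : U.1 ≤ f ⁻¹ᵁ V.1) (x : X) (hx : x ∈ U.1) :
    letI := (f.appLE V.1 U.1 e).hom.toAlgebra
    ∀ (Q : Ideal (((U.2.primeIdealOf ⟨x, hx⟩).asIdeal.comap (algebraMap Γ(S, V.1) Γ(X, U.1))).Fiber Γ(X, U.1))) [Q.IsPrime],
      Q.comap (Algebra.TensorProduct.includeRight : Γ(X, U.1) →ₐ[Γ(S, V.1)] _) = (U.2.primeIdealOf ⟨x, hx⟩).asIdeal →
      (Pi1.IsCompleteIntersection (CInt.fiberStalk f x) ↔ Pi1.IsCompleteIntersection (Localization.AtPrime Q)) := by
  letI := (f.appLE V.1 U.1 e).hom.toAlgebra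
  intro Q hQp hQ
  let q := (U.2.primeIdealOf ⟨x, hx⟩).asIdeal
  let p := q.comap (algebraMap Γ(S, V.1) Γ(X, U.1))
  let T := Γ(X, U.1)
  letI := X.presheaf.algebra_section_stalk (⟨x, hx⟩ : U.1)
  haveI : IsLocalization.AtPrime (X.presheaf.stalk x) q := U.2.isLocalization_stalk ⟨x, hx⟩
  letI := S.presheaf.algebra_section_stalk (⟨f x, e hx⟩ : V.1)
  haveI : IsLocalization.AtPrime (S.presheaf.stalk (f x)) (V.2.primeIdealOf ⟨f x, e hx⟩).asIdeal :=
    V.2.isLocalization_stalk ⟨f x, e hx⟩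
  have hp : (V.2.primeIdealOf ⟨f x, e hx⟩).asIdeal = p := by
    have h := IsAffineOpen.comap_primeIdealOf_appLE (f := f) V.1 V.2 U.1 U.2 e hx
    exact (congrArg PrimeSpectrum.asIdeal h).symm
  have hm : (maximalIdeal (S.presheaf.stalk (f x))).map (f.stalkMap x).hom =
      (p.map (algebraMap Γ(S, V.1) T)).map (algebraMap T (X.presheaf.stalk x)) := by
    rw [← IsLocalization.AtPrime.map_eq_maximalIdeal (V.2.primeIdealOf ⟨f x, e hx⟩).asIdeal (S.presheaf.stalk (f x)),
      hp, Ideal.map_map, Ideal.map_map]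
    congr 1
    refine RingHom.ext fun s => ?_
    show (f.stalkMap x).hom (S.presheaf.germ V.1 (f x) (e hx) s) = X.presheaf.germ U.1 x hx (f.appLE V.1 U.1 e s)
    rw [Scheme.Hom.germ_stalkMap_apply]
    exact (TopCat.Presheaf.germ_res_apply X.presheaf (homOfLE e) x hx _).symm
  have hpT : (p.map (algebraMap Γ(S, V.1) T)).map (algebraMap T (X.presheaf.stalk x)) ≤ maximalIdeal (X.presheaf.stalk x) := by
    rw [← hm]; exact map_maximalIdeal_le _
  haveI : Nontrivial (X.presheaf.stalk x ⧸ (maximalIdeal (S.presheaf.stalk (f x))).map (f.stalkMap x).hom) :=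
    Ideal.Quotient.nontrivial_iff.mpr (ne_top_of_le_ne_top (maximalIdeal.isMaximal _).ne_top (hm ▸ hpT))
  haveI : IsLocalRing (X.presheaf.stalk x ⧸ (maximalIdeal (S.presheaf.stalk (f x))).map (f.stalkMap x).hom) :=
    .of_surjective' _ Ideal.Quotient.mk_surjective
  rw [← isCI_fiberStalk_iff f x]
  have hr : (Q.comap (Algebra.TensorProduct.includeRight : T →ₐ[Γ(S, V.1)] _)).primeCompl = q.primeCompl := by
    ext z; exact not_congr (by rw [hQ])
  let Sr := Localization.AtPrime (Q.comap (Algebra.TensorProduct.includeRight : T →ₐ[Γ(S, V.1)] _))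
  haveI : IsLocalization q.primeCompl Sr := hr ▸ (inferInstance : IsLocalization _ Sr)
  let eS : Sr ≃ₐ[T] X.presheaf.stalk x := IsLocalization.algEquiv q.primeCompl Sr (X.presheaf.stalk x)
  let eQ := (Ideal.Fiber.algEquivAux₂ p Q).toRingEquiv.trans
    (Ideal.quotientEquiv _ ((maximalIdeal (S.presheaf.stalk (f x))).map (f.stalkMap x).hom) eS.toRingEquiv (by
      rw [hm]
      conv_rhs => rw [Ideal.map_map]
      congr 1
      exact RingHom.ext fun z => (eS.commutes z).symm))
  haveI : IsNoetherianRing (p.Fiber T) := by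
    haveI : Algebra.FiniteType Γ(S, V.1) T :=
      HasRingHomProperty.appLE @LocallyOfFiniteType f inferInstance V U e
    exact Algebra.FiniteType.isNoetherianRing p.ResidueField _
  haveI : IsNoetherianRing (Localization.AtPrime Q) := IsLocalization.isNoetherianRing Q.primeCompl _ inferInstance
  exact (isCI_congr eQ).symm

/-- Syntomic at a point iff the fibre local ring is a complete intersection. -/
theorem isSyntomicAt_iff {X S : Scheme.{u}} (f : X ⟶ S) [Flat f] [LocallyOfFinitePresentation f] (x : X) :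
    Synt.IsSyntomicAt f x ↔ Pi1.IsCompleteIntersection (CInt.fiberStalk f x) := by
  constructor
  · rintro ⟨U, V, e, hx, hs⟩
    letI := (f.appLE V.1 U.1 e).hom.toAlgebra
    let q := (U.2.primeIdealOf ⟨x, hx⟩).asIdeal
    obtain ⟨Q, hQp, hQ⟩ := H9CI.exists_fibre_prime (R := Γ(S, V.1)) (S := Γ(X, U.1)) q
    haveI := hQp
    have hci := H9CI.isCIOver_of_isLCIOver (hs.2.2 ⟨q.comap (algebraMap Γ(S, V.1) Γ(X, U.1)), inferInstance⟩) Q
    haveI : Algebra.FinitePresentation Γ(S, V.1) Γ(X, U.1) := hs.2.1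
    haveI : Algebra.EssFiniteType (Localization.AtPrime Q) (Localization.AtPrime Q) := inferInstance
    haveI : Algebra.EssFiniteType (q.comap (algebraMap Γ(S, V.1) Γ(X, U.1))).ResidueField (Localization.AtPrime Q) :=
      haveI : Algebra.EssFiniteType ((q.comap (algebraMap Γ(S, V.1) Γ(X, U.1))).Fiber Γ(X, U.1)) (Localization.AtPrime Q) :=
        .of_isLocalization _ Q.primeCompl
      Algebra.EssFiniteType.comp _ ((q.comap (algebraMap Γ(S, V.1) Γ(X, U.1))).Fiber Γ(X, U.1)) _
    exact (isCI_fiberStalk_iff_chart f U V e x hx Q hQ).mpr (isCIOver_iff_isCI.mp hci)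
  · intro h
    obtain ⟨V, (hV : IsAffineOpen V), hxV, -⟩ := TopologicalSpace.Opens.isBasis_iff_nbhd.mp S.isBasis_affineOpens
      (show f x ∈ (⊤ : S.Opens) from trivial)
    obtain ⟨U, (hU : IsAffineOpen U), hxU, hUV⟩ := TopologicalSpace.Opens.isBasis_iff_nbhd.mp X.isBasis_affineOpens
      (show x ∈ f ⁻¹ᵁ V from hxV)
    letI alg := (f.appLE V U hUV).hom.toAlgebra
    haveI : Algebra.FinitePresentation Γ(S, V) Γ(X, U) :=
      HasRingHomProperty.appLE @LocallyOfFinitePresentation f inferInstance ⟨V, hV⟩ ⟨U, hU⟩ hUV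
    haveI : Module.Flat Γ(S, V) Γ(X, U) := HasRingHomProperty.appLE @Flat f inferInstance ⟨V, hV⟩ ⟨U, hU⟩ hUV
    let q := (hU.primeIdealOf ⟨x, hxU⟩).asIdeal
    obtain ⟨Q, hQp, hQ⟩ := H9CI.exists_fibre_prime (R := Γ(S, V)) (S := Γ(X, U)) q
    haveI := hQp
    haveI : Algebra.EssFiniteType (q.comap (algebraMap Γ(S, V) Γ(X, U))).ResidueField (Localization.AtPrime Q) :=
      haveI : Algebra.EssFiniteType ((q.comap (algebraMap Γ(S, V) Γ(X, U))).Fiber Γ(X, U)) (Localization.AtPrime Q) :=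
        .of_isLocalization _ Q.primeCompl
      Algebra.EssFiniteType.comp _ ((q.comap (algebraMap Γ(S, V) Γ(X, U))).Fiber Γ(X, U)) _
    have hci := (isCIOver_iff_isCI (k := (q.comap (algebraMap Γ(S, V) Γ(X, U))).ResidueField)).mpr ((isCI_fiberStalk_iff_chart f ⟨U, hU⟩ ⟨V, hV⟩ hUV x hxU Q hQ).mp h)
    haveI : Module.Flat Γ(S, V) (Localization.AtPrime q) :=
      Module.Flat.trans Γ(S, V) Γ(X, U) _
    obtain ⟨g, hg, n, c, F, hF, ⟨ε⟩⟩ := H9CI.exists_isRelGCI_nhd (q.comap (algebraMap Γ(S, V) Γ(X, U))) q rfl Q hQ hci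
    have hs : Synt.IsSyntomic Γ(S, V) (Localization.Away g) :=
      H9Synt.isSyntomic_of_algEquiv ε.symm (H9CI.isSyntomic_relGCIRing F hF)
    have hxg : x ∈ X.basicOpen g := by
      have h2 : hU.primeIdealOf ⟨x, hxU⟩ ∈ hU.fromSpec ⁻¹ᵁ X.basicOpen g := by
        rw [hU.fromSpec_preimage_basicOpen g]; exact hg
      have h3 : hU.fromSpec (hU.primeIdealOf ⟨x, hxU⟩) ∈ X.basicOpen g := h2
      rwa [hU.fromSpec_primeIdealOf] at h3
    have e₂ : X.basicOpen g ≤ f ⁻¹ᵁ V := (X.basicOpen_le g).trans hUV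
    refine ⟨⟨X.basicOpen g, hU.basicOpen g⟩, ⟨V, hV⟩, e₂, hxg, ?_⟩
    letI : Algebra Γ(X, U) Γ(X, X.basicOpen g) := (X.presheaf.map (homOfLE (X.basicOpen_le g)).op).hom.toAlgebra
    haveI := hU.isLocalization_basicOpen g
    letI : Algebra Γ(S, V) Γ(X, X.basicOpen g) := (f.appLE V (X.basicOpen g) e₂).hom.toAlgebra
    haveI : IsScalarTower Γ(S, V) Γ(X, U) Γ(X, X.basicOpen g) := IsScalarTower.of_algebraMap_eq fun r => by
      show f.appLE V (X.basicOpen g) e₂ r = (f.appLE V U hUV ≫ X.presheaf.map (homOfLE (X.basicOpen_le g)).op) r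
      rw [Scheme.Hom.appLE_map]
    exact H9Synt.isSyntomic_of_algEquiv
      ((IsLocalization.algEquiv (Submonoid.powers g) (Localization.Away g) Γ(X, X.basicOpen g)).restrictScalars Γ(S, V)) hs

theorem flat_lfp_of_isSyntomicMor {X S : Scheme.{u}} {f : X ⟶ S} (h : Synt.IsSyntomicMor f) :
    Flat f ∧ LocallyOfFinitePresentation f :=
  ⟨(HasRingHomProperty.iff_appLE (P := @Flat)).mpr fun V U e => (H9CI.isSyntomic_appLE f h U V e).1,
    (HasRingHomProperty.iff_appLE (P := @LocallyOfFinitePresentation)).mpr fun V U e => (H9CI.isSyntomic_appLE f h U V e).2.1⟩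

/-- Syntomic morphisms are exactly the complete intersection morphisms. -/
theorem isSyntomicMor_iff_isCIMorphism {X S : Scheme.{u}} (f : X ⟶ S) :
    Synt.IsSyntomicMor f ↔ CInt.IsCIMorphism f := by
  constructor
  · intro h
    obtain ⟨h1, h2⟩ := flat_lfp_of_isSyntomicMor h
    haveI := h1
    haveI := h2
    exact ⟨h1, h2, fun x => (isSyntomicAt_iff f x).mp (h x)⟩
  · rintro ⟨h1, h2, h3⟩ x
    haveI := h1
    haveI := h2
    exact (isSyntomicAt_iff f x).mpr (h3 x)

/-- The syntomic locus is open. -/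
theorem isOpen_fiberCI {X S : Scheme.{u}} (f : X ⟶ S) [Flat f] [LocallyOfFinitePresentation f] :
    IsOpen {x : X | Pi1.IsCompleteIntersection (CInt.fiberStalk f x)} := by
  rw [isOpen_iff_forall_mem_open]
  intro x hx
  obtain ⟨U, V, e, hxU, hs⟩ := (isSyntomicAt_iff f x).mpr hx
  exact ⟨U.1, fun y hy => (isSyntomicAt_iff f y).mp ⟨U, V, e, hy, hs⟩, U.1.isOpen, hxU⟩

end Groth.Agent.H13CI
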