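import Groth.Agent.H13CI.Ascent

/-!
# Ascent along flat local maps essentially of finite type
-/

set_option autoImplicit false
set_option linter.style.haveILetI false

universe u

open IsLocalRing TensorProduct RingTheory.Sequence

namespace Groth.Agent.H13CI

/-- Base change of flatness to quotients. -/
theorem flat_quotient_map {B B' : Type u} [CommRing B] [CommRing B'] [Algebra B B'] [Module.Flat B B'] (I : Ideal B) :
    (Ideal.quotientMap (I.map (algebraMap B B')) (algebraMap B B') Ideal.le_comap_map).Flat := by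
  letI := (Ideal.quotientMap (I.map (algebraMap B B')) (algebraMap B B') Ideal.le_comap_map).toAlgebra
  haveI : IsScalarTower B (B ⧸ I) (B' ⧸ I.map (algebraMap B B')) := IsScalarTower.of_algebraMap_eq fun _ => rfl
  let e : (B ⧸ I) ⊗[B] B' ≃ₗ[B] B' ⧸ I.map (algebraMap B B') :=
    (TensorProduct.quotTensorEquivQuotSMul B' I).trans
      ((Submodule.quotEquivOfEq _ _ (Ideal.smul_top_eq_map I)).trans (Submodule.Quotient.restrictScalarsEquiv B _))
  exact RingHom.flat_algebraMap_iff.mpr
    (Module.Flat.of_linearEquiv (e.extendScalarsOfSurjective Ideal.Quotient.mk_surjective).symm)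

/-- Maps of local rings extend to the completions. -/
theorem exists_completion_map {A B : Type u} [CommRing A] [CommRing B] [IsLocalRing A] [IsLocalRing B]
    (φ : A →+* B) [IsLocalHom φ] :
    ∃ ψ : AdicCompletion (maximalIdeal A) A →+* AdicCompletion (maximalIdeal B) B,
      ψ.comp (algebraMap A (AdicCompletion (maximalIdeal A) A)) =
        (algebraMap B (AdicCompletion (maximalIdeal B) B)).comp φ := by
  letI := φ.toAlgebra
  haveI : IsLocalHom (algebraMap A B) := ‹IsLocalHom φ›
  have hm : (maximalIdeal A).map (algebraMap A B) ≤ maximalIdeal B := map_maximalIdeal_le _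
  let f : ∀ k, AdicCompletion (maximalIdeal A) A →ₐ[A] B ⧸ maximalIdeal B ^ k := fun k =>
    (Ideal.quotientMapₐ (maximalIdeal B ^ k) (Algebra.ofId A B) (Ideal.map_le_iff_le_comap.mp
      ((Ideal.map_pow (algebraMap A B) _ k).le.trans (Ideal.pow_right_mono hm k)))).comp
      (AdicCompletion.evalₐ (maximalIdeal A) k)
  let ψ := AdicCompletion.liftAlgHom (maximalIdeal B) f fun {j k} hle => AlgHom.ext fun x => by
    obtain ⟨x, rfl⟩ : ∃ c, AdicCompletion.mkₐ (maximalIdeal A) c = x := AdicCompletion.mk_surjective _ _ x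
    simp only [AlgHom.comp_apply, f]
    show Ideal.Quotient.mk _ (algebraMap A B (x.val k)) = Ideal.Quotient.mk _ (algebraMap A B (x.val j))
    have hx := Ideal.Quotient.eq.mp (AdicCompletion.Ideal.mk_eq_mk (maximalIdeal A) hle x)
    rw [Ideal.Quotient.eq, ← map_sub]
    refine Ideal.pow_right_mono hm j ?_
    rw [← Ideal.map_pow]
    exact Ideal.mem_map_of_mem _ hx
  exact ⟨ψ.toRingHom, RingHom.ext fun a =>
    (ψ.commutes a).trans (IsScalarTower.algebraMap_apply A B (AdicCompletion (maximalIdeal B) B) a)⟩

/-- The complete intersection property only depends on the completion. -/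
theorem isCI_iff_of_completion_iso {A B : Type u} [CommRing A] [CommRing B] [IsLocalRing A] [IsLocalRing B]
    [IsNoetherianRing A] [IsNoetherianRing B] (φ : A →+* B) [IsLocalHom φ] (hflat : φ.Flat)
    (hm : maximalIdeal B ≤ (maximalIdeal A).map φ) (hk : Function.Surjective (ResidueField.map φ)) :
    Pi1.IsCompleteIntersection A ↔ Pi1.IsCompleteIntersection B := by
  obtain ⟨ψ, hψ⟩ := exists_completion_map φ
  have hsurj := H02CA.surjective_completion φ ψ hψ hk (hm.trans le_sup_left)
  haveI := H02CA.isLocalHom_completion φ ψ hψ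
  have hinj : Function.Injective ψ := by
    have hflat' := (H02CA.flat_completion_iff φ ψ hψ).mpr hflat
    letI := ψ.toAlgebra
    haveI : Module.Flat (AdicCompletion (maximalIdeal A) A) (AdicCompletion (maximalIdeal B) B) := hflat'
    haveI : IsLocalHom (algebraMap (AdicCompletion (maximalIdeal A) A) (AdicCompletion (maximalIdeal B) B)) :=
      ‹IsLocalHom ψ›
    haveI : Module.FaithfullyFlat (AdicCompletion (maximalIdeal A) A) (AdicCompletion (maximalIdeal B) B) :=
      Module.FaithfullyFlat.of_flat_of_isLocalHom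
    exact FaithfulSMul.algebraMap_injective _ _
  let e := RingEquiv.ofBijective ψ ⟨hinj, hsurj⟩
  constructor
  · rintro ⟨R, i1, i2, rs, h1, h2, ⟨e'⟩⟩
    exact ⟨R, i1, i2, rs, h1, h2, ⟨e.symm.trans e'⟩⟩
  · rintro ⟨R, i1, i2, rs, h1, h2, ⟨e'⟩⟩
    exact ⟨R, i1, i2, rs, h1, h2, ⟨e.trans e'⟩⟩

/-- A local ring is a complete intersection iff its completion is. -/
theorem isCI_completion_iff (A : Type u) [CommRing A] [IsLocalRing A] [IsNoetherianRing A] :
    Pi1.IsCompleteIntersection A ↔ Pi1.IsCompleteIntersection (AdicCompletion (maximalIdeal A) A) := by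
  haveI := H05EGA4.isNoetherianRing_adicCompletion A (maximalIdeal A)
  exact isCI_iff_of_completion_iso (algebraMap A _) (RingHom.flat_algebraMap_iff.mpr inferInstance)
    AdicCompletion.maximalIdeal_eq_map.le (AdicCompletion.residueField_map_bijective A).2

/-- The closed fibre of a localised polynomial ring is regular. -/
theorem isRegularLocalRing_fibre {R : Type u} [CommRing R] [IsLocalRing R] {n : ℕ} (p : Ideal (MvPolynomial (Fin n) R))
    [p.IsPrime] (hpm : (maximalIdeal R).map MvPolynomial.C ≤ p) :
    IsRegularLocalRing (Localization.AtPrime p ⧸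
      ((maximalIdeal R).map MvPolynomial.C).map (algebraMap (MvPolynomial (Fin n) R) (Localization.AtPrime p))) := by
  let mP : Ideal (MvPolynomial (Fin n) R) := (maximalIdeal R).map MvPolynomial.C
  haveI : (p.map (Ideal.Quotient.mk mP)).IsPrime :=
    Ideal.map_isPrime_of_surjective Ideal.Quotient.mk_surjective (by rwa [Ideal.mk_ker])
  obtain ⟨e⟩ := exists_quotient_localization_equiv mP p hpm
  haveI : IsRegularRing (MvPolynomial (Fin n) (R ⧸ maximalIdeal R)) :=
    inferInstanceAs (IsRegularRing (MvPolynomial (Fin n) (ResidueField R)))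
  let e₀ := (MvPolynomial.quotientEquivQuotientMvPolynomial (σ := Fin n) (maximalIdeal R)).toRingEquiv
  haveI : IsRegularRing (MvPolynomial (Fin n) R ⧸ mP) :=
    IsRegularRing.of_ringEquiv (R := MvPolynomial (Fin n) (R ⧸ maximalIdeal R)) e₀
  haveI := IsRegularRing.isRegularLocalRing_localization (p.map (Ideal.Quotient.mk mP))
  exact IsRegularLocalRing.of_ringEquiv (R := Localization.AtPrime (p.map (Ideal.Quotient.mk mP))) e.symm

/-- Ascent with a base which is a quotient of a regular local ring. -/
theorem isCI_of_eft_of_presented {R A B : Type u} [CommRing R] [IsRegularLocalRing R] [CommRing A] [IsLocalRing A]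
    [CommRing B] [IsLocalRing B] (f : R →+* A) (hf : Function.Surjective f) [Algebra A B]
    [IsLocalHom (algebraMap A B)] [Module.Flat A B] [Algebra.EssFiniteType A B]
    [IsLocalRing (B ⧸ (maximalIdeal A).map (algebraMap A B))]
    (hA : Pi1.IsCompleteIntersection A)
    (hF : Pi1.IsCompleteIntersection (B ⧸ (maximalIdeal A).map (algebraMap A B))) :
    Pi1.IsCompleteIntersection B := by
  haveI : IsNoetherianRing A := isNoetherianRing_of_surjective R A f hf
  haveI : IsLocalHom f := hf.isLocalHom f
  letI := ((algebraMap A B).comp f).toAlgebra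
  letI := f.toAlgebra
  haveI : IsScalarTower R A B := IsScalarTower.of_algebraMap_eq fun _ => rfl
  haveI : Algebra.FiniteType R A :=
    Algebra.FiniteType.of_surjective (Algebra.ofId R A) hf
  haveI : Algebra.EssFiniteType R A := inferInstance
  haveI : Algebra.EssFiniteType R B := Algebra.EssFiniteType.comp R A B
  haveI : IsNoetherianRing B := Algebra.EssFiniteType.isNoetherianRing A B
  let B₀ := Algebra.EssFiniteType.subalgebra R B
  obtain ⟨n, π, hπ⟩ := Algebra.FiniteType.iff_quotient_mvPolynomial''.mp (inferInstance : Algebra.FiniteType R B₀)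
  let a : Ideal B₀ := (maximalIdeal B).comap (algebraMap B₀ B)
  haveI : IsLocalization a.primeCompl B := by
    have h : a.primeCompl = Algebra.EssFiniteType.submonoid R B := by
      ext x
      show (¬ algebraMap B₀ B x ∈ maximalIdeal B) ↔ IsUnit (algebraMap B₀ B x)
      rw [mem_maximalIdeal, mem_nonunits_iff, not_not]
    rw [h]
    exact Algebra.EssFiniteType.isLocalization R B
  let χ : MvPolynomial (Fin n) R →+* B := (algebraMap B₀ B).comp π.toRingHom
  let p : Ideal (MvPolynomial (Fin n) R) := (maximalIdeal B).comap χ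
  let S := Localization.AtPrime p
  have hu : ∀ y : p.primeCompl, IsUnit (χ y) := fun y => by
    by_contra h; exact y.2 h
  let g : S →+* B := IsLocalization.lift (S := S) hu
  have hg : Function.Surjective g := by
    intro b
    obtain ⟨x, s, rfl⟩ := IsLocalization.exists_mk'_eq a.primeCompl b
    obtain ⟨x', rfl⟩ := hπ x
    obtain ⟨s', hs'⟩ := hπ s
    refine ⟨IsLocalization.mk' S x' (⟨s', fun h => s.2 (show algebraMap B₀ B (s : B₀) ∈ maximalIdeal B by rw [← hs']; exact h)⟩ : p.primeCompl), ?_⟩
    refine (IsLocalization.lift_mk'_spec (hg := hu) _ _ _).mpr ?_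
    show algebraMap B₀ B (π x') = algebraMap B₀ B (π s') * _
    rw [hs', IsLocalization.mk'_spec']
  let φ : R →+* S := (algebraMap (MvPolynomial (Fin n) R) S).comp MvPolynomial.C
  have hcomm : g.comp φ = (algebraMap A B).comp f := by
    ext r
    show g (algebraMap (MvPolynomial (Fin n) R) S (MvPolynomial.C r)) = _
    rw [IsLocalization.lift_eq]
    show algebraMap B₀ B (π (MvPolynomial.C r)) = _
    rw [← MvPolynomial.algebraMap_eq, π.commutes]
    rfl
  haveI : IsLocalHom φ := ⟨fun r hr => by
    have h := hr.map g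
    rw [show g (φ r) = algebraMap A B (f r) from RingHom.congr_fun hcomm r] at h
    exact isUnit_of_map_unit f r (isUnit_of_map_unit (algebraMap A B) _ h)⟩
  have hpm : (maximalIdeal R).map MvPolynomial.C ≤ p := Ideal.map_le_iff_le_comap.mpr fun r hr => by
    show χ (MvPolynomial.C r) ∈ maximalIdeal B
    rw [show χ (MvPolynomial.C r) = algebraMap A B (f r) by
      rw [← RingHom.comp_apply (algebraMap A B) f r, ← hcomm]
      exact (IsLocalization.lift_eq hu _).symm]
    exact map_nonunit _ _ (map_nonunit f r hr)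
  haveI : IsRegularRing R := H05EGA4.isRegularRing_of_isRegularLocalRing R
  haveI : IsRegularLocalRing S := IsRegularRing.isRegularLocalRing_localization p
  have hφ : φ.Flat := by
    haveI : Module.Flat (MvPolynomial (Fin n) R) S := IsLocalization.flat S p.primeCompl
    exact RingHom.Flat.comp (RingHom.flat_algebraMap_iff.mpr (inferInstance : Module.Flat R (MvPolynomial (Fin n) R)))
      (RingHom.flat_algebraMap_iff.mpr inferInstance)
  have hfib : IsRegularLocalRing (S ⧸ (maximalIdeal R).map φ) := by
    rw [show (maximalIdeal R).map φ = ((maximalIdeal R).map MvPolynomial.C).map (algebraMap _ S) from (Ideal.map_map _ _).symm]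
    exact isRegularLocalRing_fibre p hpm
  exact isCI_of_flat_of_fibre φ hφ hfib f hf g hg (algebraMap A B) (RingHom.flat_algebraMap_iff.mpr inferInstance)
    hcomm hA hF

/-- Ascent along a flat local homomorphism essentially of finite type with complete intersection closed fibre. -/
theorem isCI_of_eft {A B : Type u} [CommRing A] [IsLocalRing A] [IsNoetherianRing A]
    [CommRing B] [IsLocalRing B] [Algebra A B] [IsLocalHom (algebraMap A B)] [Module.Flat A B]
    [Algebra.EssFiniteType A B] [IsLocalRing (B ⧸ (maximalIdeal A).map (algebraMap A B))]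
    (hA : Pi1.IsCompleteIntersection A)
    (hF : Pi1.IsCompleteIntersection (B ⧸ (maximalIdeal A).map (algebraMap A B))) :
    Pi1.IsCompleteIntersection B := by
  classical
  haveI : IsNoetherianRing B := Algebra.EssFiniteType.isNoetherianRing A B
  let Ah := AdicCompletion (maximalIdeal A) A
  let Bh := AdicCompletion (maximalIdeal B) B
  haveI := H05EGA4.isNoetherianRing_adicCompletion A (maximalIdeal A)
  obtain ⟨ψ, hψ⟩ := exists_completion_map (algebraMap A B)
  haveI := H02CA.isLocalHom_completion (algebraMap A B) ψ hψ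
  let ψₐ : Ah →ₐ[A] Bh := { ψ with commutes' := fun a => (RingHom.congr_fun hψ a).trans (IsScalarTower.algebraMap_apply A B Bh a).symm }
  -- work over the completion
  let T := Ah ⊗[A] B
  let χ : T →ₐ[A] Bh := Algebra.TensorProduct.lift ψₐ (IsScalarTower.toAlgHom A B Bh) fun _ _ => mul_comm _ _
  let Q : Ideal T := (maximalIdeal Bh).comap χ
  haveI : Q.IsPrime := Ideal.IsPrime.comap χ
  obtain ⟨B', _, _, _⟩ : ∃ (B' : Type u) (_ : CommRing B') (_ : Algebra T B'), IsLocalization.AtPrime B' Q :=
    ⟨Localization.AtPrime Q, inferInstance, inferInstance, inferInstance⟩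
  haveI : IsLocalRing B' := IsLocalization.AtPrime.isLocalRing B' Q
  let ι : B →+* T := (Algebra.TensorProduct.includeRight : B →ₐ[A] T).toRingHom
  let M : Ideal T := (maximalIdeal B).map ι
  have hcomap : ∀ b, ι b ∈ Q ↔ b ∈ maximalIdeal B := fun b => by
    show χ ((1 : Ah) ⊗ₜ[A] b) ∈ maximalIdeal Bh ↔ _
    rw [Algebra.TensorProduct.lift_tmul, map_one, one_mul]
    exact map_mem_nonunits_iff (algebraMap B Bh) b
  -- every element is congruent to one of `B`
  have happrox : ∀ t : T, ∃ b : B, t - ι b ∈ M := by
    intro t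
    induction t using TensorProduct.induction_on with
    | zero => exact ⟨0, by simp⟩
    | add x y hx hy =>
      obtain ⟨b, hb⟩ := hx
      obtain ⟨c, hc⟩ := hy
      refine ⟨b + c, ?_⟩
      rw [map_add, add_sub_add_comm]
      exact add_mem hb hc
    | tmul x b =>
      obtain ⟨a, ha⟩ : ∃ a : A, x - algebraMap A Ah a ∈ maximalIdeal Ah := by
        obtain ⟨c, hc⟩ := (AdicCompletion.residueField_map_bijective A).2 (residue _ x)
        obtain ⟨a, rfl⟩ := residue_surjective c
        rw [ResidueField.map_residue] at hc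
        exact ⟨a, Ideal.Quotient.eq.mp hc.symm⟩
      refine ⟨algebraMap A B a * b, ?_⟩
      have key : ∀ z ∈ maximalIdeal Ah, z ⊗ₜ[A] b ∈ M := by
        intro z hz
        have hz' : (Algebra.TensorProduct.includeLeftRingHom : Ah →+* T) z ∈ M := by
          refine (Ideal.map_le_iff_le_comap (K := M)).mp ?_ hz
          rw [AdicCompletion.maximalIdeal_eq_map, Ideal.map_map, Ideal.map_le_iff_le_comap]
          intro m hm
          show (algebraMap A Ah m) ⊗ₜ[A] (1 : B) ∈ M
          rw [Algebra.algebraMap_eq_smul_one, smul_tmul, ← Algebra.algebraMap_eq_smul_one]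
          exact Ideal.mem_map_of_mem ι (map_nonunit _ m hm)
        have := Ideal.mul_mem_right (ι b) M hz'
        have e : (Algebra.TensorProduct.includeLeftRingHom : Ah →+* T) z * ι b = z ⊗ₜ[A] b := by
          show (z ⊗ₜ[A] (1 : B)) * ((1 : Ah) ⊗ₜ[A] b) = _
          rw [Algebra.TensorProduct.tmul_mul_tmul, mul_one, one_mul]
        rwa [e] at this
      have : x ⊗ₜ[A] b - ι (algebraMap A B a * b) = (x - algebraMap A Ah a) ⊗ₜ[A] b := by
        rw [sub_tmul]
        congr 1
        rw [Algebra.algebraMap_eq_smul_one (A := Ah) a, smul_tmul, Algebra.smul_def]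
        rfl
      rw [this]
      exact key _ ha
  have hMQ : M = Q := by
    refine le_antisymm (Ideal.map_le_iff_le_comap.mpr fun b hb => (hcomap b).mpr hb) fun t ht => ?_
    obtain ⟨b, hb⟩ := happrox t
    have hbQ : ι b ∈ Q := by
      have := Q.sub_mem ht ((Ideal.map_le_iff_le_comap.mpr fun c hc => (hcomap c).mpr hc : M ≤ Q) hb)
      simpa using this
    simpa using add_mem hb (Ideal.mem_map_of_mem ι ((hcomap b).mp hbQ))
  let φ' : B →+* B' := (algebraMap T B').comp ι
  haveI : IsLocalHom φ' := ⟨fun b hb => by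
    by_contra h
    exact (IsLocalization.AtPrime.to_map_mem_maximal_iff B' Q (ι b)).mpr ((hcomap b).mpr h) hb⟩
  have hmax : maximalIdeal B' = (maximalIdeal B).map φ' := by
    rw [← Ideal.map_map]
    show maximalIdeal B' = M.map _
    rw [hMQ, IsLocalization.AtPrime.map_eq_maximalIdeal Q B']
  haveI : Module.Flat A Ah := inferInstance
  have hflat' : φ'.Flat := by
    haveI : Module.Flat T B' := IsLocalization.flat B' Q.primeCompl
    refine RingHom.Flat.comp ?_ (RingHom.flat_algebraMap_iff.mpr inferInstance)
    letI := ι.toAlgebra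
    haveI : IsScalarTower A B T := IsScalarTower.of_algebraMap_eq fun a => ((Algebra.TensorProduct.includeRight : B →ₐ[A] T).commutes a).symm
    haveI : Module.Flat B T := by
      let e : T ≃ₗ[B] B ⊗[A] Ah :=
        { (TensorProduct.comm A Ah B).toAddEquiv with
          map_smul' := fun c t => by
            show TensorProduct.comm A Ah B (c • t) = c • TensorProduct.comm A Ah B t
            induction t using TensorProduct.induction_on with
            | zero => simp [Algebra.smul_def]
            | add x y hx hy =>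
              rw [Algebra.smul_def, mul_add, ← Algebra.smul_def, ← Algebra.smul_def, map_add, hx, hy, map_add, smul_add]
            | tmul x y =>
              rw [Algebra.smul_def c (x ⊗ₜ[A] y : T)]
              show TensorProduct.comm A Ah B (((1 : Ah) ⊗ₜ[A] c) * (x ⊗ₜ[A] y)) = _
              rw [Algebra.TensorProduct.tmul_mul_tmul, one_mul, TensorProduct.comm_tmul, TensorProduct.comm_tmul,
                TensorProduct.smul_tmul', smul_eq_mul] }
      exact Module.Flat.of_linearEquiv e
    exact RingHom.flat_algebraMap_iff.mpr ‹Module.Flat B T›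
  have hk : Function.Surjective (ResidueField.map φ') := by
    intro z
    obtain ⟨z, rfl⟩ := residue_surjective z
    obtain ⟨t, s, rfl⟩ := IsLocalization.exists_mk'_eq Q.primeCompl z
    obtain ⟨b, hb⟩ := happrox t
    obtain ⟨c, hc⟩ := happrox s.1
    have hcu : IsUnit c := by
      by_contra h
      refine s.2 ?_
      have h1 : ι c ∈ Q := (hcomap c).mpr h
      simpa using add_mem (hMQ.le hc) h1
    obtain ⟨c, rfl⟩ := hcu
    refine ⟨residue B (b * ↑c⁻¹), ?_⟩
    rw [ResidueField.map_residue]
    refine Ideal.Quotient.eq.mpr ?_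
    have h1 : ∀ x ∈ M, algebraMap T B' x ∈ maximalIdeal B' := fun x hx =>
      (IsLocalization.AtPrime.to_map_mem_maximal_iff B' Q x).mpr (hMQ.le hx)
    have hsu : IsUnit (algebraMap T B' s) := IsLocalization.map_units B' s
    rw [← Ideal.mul_unit_mem_iff_mem _ hsu, sub_mul, IsLocalization.mk'_spec,
      show φ' (b * ↑c⁻¹) * algebraMap T B' s - algebraMap T B' t =
        φ' (b * ↑c⁻¹) * algebraMap T B' (s - ι c) - algebraMap T B' (t - ι b) by
      have key : algebraMap T B' (ι (b * ↑c⁻¹)) * algebraMap T B' (ι c) = algebraMap T B' (ι b) := by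
        rw [← map_mul, ← map_mul, mul_assoc, Units.inv_mul, mul_one]
      simp only [φ', RingHom.comp_apply, map_sub, mul_sub, key]
      ring]
    exact sub_mem (Ideal.mul_mem_left _ _ (h1 _ hc)) (h1 _ hb)
  -- `B'` over the completion
  letI : Algebra Ah B' := ((algebraMap T B').comp (algebraMap Ah T)).toAlgebra
  haveI : IsScalarTower Ah T B' := IsScalarTower.of_algebraMap_eq (R := Ah) (S := T) (A := B') fun _ => rfl
  haveI : Module.Flat Ah B' := by
    haveI : Module.Flat T B' := IsLocalization.flat B' Q.primeCompl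
    exact Module.Flat.trans Ah T B'
  haveI : Algebra.EssFiniteType Ah B' := by
    haveI : Algebra.EssFiniteType T B' := .of_isLocalization _ Q.primeCompl
    exact Algebra.EssFiniteType.comp Ah T B'
  haveI : IsNoetherianRing B' := Algebra.EssFiniteType.isNoetherianRing Ah B'
  haveI : IsLocalHom (algebraMap Ah B') := ⟨fun x hx => by
    by_contra h
    refine (IsLocalization.AtPrime.to_map_mem_maximal_iff B' Q (algebraMap Ah T x)).mpr ?_ hx
    show χ (x ⊗ₜ[A] (1 : B)) ∈ maximalIdeal Bh
    rw [Algebra.TensorProduct.lift_tmul, map_one, mul_one]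
    exact map_nonunit ψ x h⟩
  rw [isCI_iff_of_completion_iso φ' hflat' hmax.le hk]
  -- the closed fibre is unchanged
  let mF : Ideal B := (maximalIdeal A).map (algebraMap A B)
  have hmF : (maximalIdeal Ah).map (algebraMap Ah B') = mF.map φ' := by
    rw [AdicCompletion.maximalIdeal_eq_map, Ideal.map_map, Ideal.map_map]
    congr 1
    ext a
    show algebraMap T B' ((algebraMap A Ah a) ⊗ₜ[A] (1 : B)) = algebraMap T B' ((1 : Ah) ⊗ₜ[A] algebraMap A B a)
    rw [Algebra.algebraMap_eq_smul_one (A := Ah) a, smul_tmul, ← Algebra.algebraMap_eq_smul_one]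
  let q' : Ideal B' := mF.map φ'
  have hq' : q' ≤ maximalIdeal B' := hmax ▸ Ideal.map_mono (map_maximalIdeal_le _)
  haveI : Nontrivial (B' ⧸ q') := Ideal.Quotient.nontrivial_iff.mpr fun h => (maximalIdeal.isMaximal B').ne_top (top_le_iff.mp (h ▸ hq'))
  haveI : IsLocalRing (B' ⧸ q') := IsLocalRing.of_surjective' _ Ideal.Quotient.mk_surjective
  haveI : IsLocalRing (B' ⧸ (maximalIdeal Ah).map (algebraMap Ah B')) := hmF ▸ (inferInstance : IsLocalRing (B' ⧸ q'))
  haveI := H05EGA4.exists_surjective_of_isRegularLocalRing Ah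
  obtain ⟨R, _, f, hR, hf⟩ := this
  haveI := hR
  refine isCI_of_eft_of_presented f hf ((isCI_completion_iff A).mp hA) ?_
  haveI : IsLocalHom (Ideal.Quotient.mk q') := Ideal.Quotient.mk_surjective.isLocalHom _
  haveI : IsLocalHom (Ideal.Quotient.mk mF) := Ideal.Quotient.mk_surjective.isLocalHom _
  let θ : B ⧸ mF →+* B' ⧸ q' := Ideal.quotientMap q' φ' Ideal.le_comap_map
  haveI : IsLocalHom θ := ⟨fun z hz => by
    obtain ⟨b, rfl⟩ := Ideal.Quotient.mk_surjective z
    exact (isUnit_of_map_unit φ' b (isUnit_of_map_unit (Ideal.Quotient.mk q') _ hz)).map _⟩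
  have hθflat : θ.Flat := by
    letI := φ'.toAlgebra
    letI := θ.toAlgebra
    haveI : Module.Flat B B' := hflat'
    exact flat_quotient_map mF
  have hiff := isCI_iff_of_completion_iso θ hθflat (fun z hz => by
      obtain ⟨z, rfl⟩ := Ideal.Quotient.mk_surjective z
      have hz' : z ∈ maximalIdeal B' := fun h => hz (h.map _)
      rw [hmax] at hz'
      have := Ideal.mem_map_of_mem (Ideal.Quotient.mk q') hz'
      rw [Ideal.map_map, show (Ideal.Quotient.mk q').comp φ' = θ.comp (Ideal.Quotient.mk mF) from rfl,
        ← Ideal.map_map] at this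
      exact Ideal.map_mono (map_maximalIdeal_le _) this) (fun w => by
      obtain ⟨w, rfl⟩ := residue_surjective w
      obtain ⟨w, rfl⟩ := Ideal.Quotient.mk_surjective w
      obtain ⟨c, hc⟩ := hk (residue B' w)
      obtain ⟨c, rfl⟩ := residue_surjective c
      refine ⟨residue _ (Ideal.Quotient.mk mF c), ?_⟩
      rw [ResidueField.map_residue] at hc ⊢
      refine Ideal.Quotient.eq.mpr ?_
      show Ideal.Quotient.mk q' (φ' c) - Ideal.Quotient.mk q' w ∈ _
      rw [← map_sub]
      exact map_nonunit _ _ (Ideal.Quotient.eq.mp hc))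
  have := hiff.mp hF
  exact isCI_of_ringEquiv (Ideal.quotEquivOfEq hmF.symm) this

end Groth.Agent.H13CI
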