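import Groth.Agent.H13CI.Basic
import Groth.Agent.H13CInt.Spread

/-!
# Complete intersection quotients of regular (local) rings
-/

set_option autoImplicit false
set_option linter.style.haveILetI false

universe u

open IsLocalRing RingTheory.Sequence

namespace Groth.Agent.H13CI

/-- Localisation commutes with quotients. -/
theorem exists_quotient_localization_equiv {S : Type u} [CommRing S] (J M0 : Ideal S) [M0.IsPrime] (h : J ≤ M0)
    [(M0.map (Ideal.Quotient.mk J)).IsPrime] :
    Nonempty ((Localization.AtPrime M0 ⧸ J.map (algebraMap S (Localization.AtPrime M0))) ≃+*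
      Localization.AtPrime (M0.map (Ideal.Quotient.mk J))) := by
  let R := Localization.AtPrime M0
  let T := R ⧸ J.map (algebraMap S R)
  letI : Algebra (S ⧸ J) T :=
    (Ideal.quotientMap (J.map (algebraMap S R)) (algebraMap S R) Ideal.le_comap_map).toAlgebra
  haveI : IsLocalization (M0.primeCompl.map (Ideal.Quotient.mk J)) T :=
    IsLocalization.of_surjective M0.primeCompl R (Ideal.Quotient.mk J) Ideal.Quotient.mk_surjective
      (Ideal.Quotient.mk (J.map (algebraMap S R))) Ideal.Quotient.mk_surjective (RingHom.ext fun _ => rfl)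
      (le_of_eq (by rw [Ideal.mk_ker, Ideal.mk_ker]))
  have hcompl : M0.primeCompl.map (Ideal.Quotient.mk J) = (M0.map (Ideal.Quotient.mk J)).primeCompl := by
    ext z
    refine ⟨?_, fun hz => ?_⟩
    · rintro ⟨a, ha, rfl⟩ hmem
      obtain ⟨b, hb, hab⟩ := (Ideal.mem_map_iff_of_surjective _ Ideal.Quotient.mk_surjective).mp hmem
      exact ha (by simpa using M0.sub_mem hb (h (Ideal.Quotient.eq.mp hab)))
    · obtain ⟨a, rfl⟩ := Ideal.Quotient.mk_surjective z
      exact ⟨a, fun ha => hz (Ideal.mem_map_of_mem _ ha), rfl⟩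
  haveI : IsLocalization (M0.map (Ideal.Quotient.mk J)).primeCompl T := hcompl ▸ ‹_›
  exact ⟨(IsLocalization.algEquiv (M0.map (Ideal.Quotient.mk J)).primeCompl T
    (Localization.AtPrime (M0.map (Ideal.Quotient.mk J)))).toRingEquiv⟩

/-- The kernel of a surjection from a regular local ring onto a complete intersection. -/
theorem exists_regular_ker {R A : Type u} [CommRing R] [IsRegularLocalRing R] [CommRing A] [IsLocalRing A]
    (f : R →+* A) (hf : Function.Surjective f) (hA : Pi1.IsCompleteIntersection A) :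
    ∃ rs : List R, Ideal.ofList rs = RingHom.ker f ∧ IsRegular R rs := by
  obtain ⟨rs, -, hreg, hker, -⟩ := H9CI.exists_isRegular_of_isCIKer f hf ((isCI_iff f hf).mp hA)
  exact ⟨rs, hker.symm, hreg⟩

/-- A quotient of a regular local ring is a complete intersection iff the ideal is regular. -/
theorem isCI_quotient_iff {R : Type u} [CommRing R] [IsRegularLocalRing R] (I : Ideal R) [IsLocalRing (R ⧸ I)] :
    Pi1.IsCompleteIntersection (R ⧸ I) ↔ ∃ rs : List R, Ideal.ofList rs = I ∧ IsRegular R rs := by
  refine ⟨fun h => ?_, ?_⟩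
  · obtain ⟨rs, h1, h2⟩ := exists_regular_ker (Ideal.Quotient.mk I) Ideal.Quotient.mk_surjective h
    exact ⟨rs, h1.trans Ideal.mk_ker, h2⟩
  · rintro ⟨rs, rfl, hreg⟩
    exact (isCI_iff _ Ideal.Quotient.mk_surjective).mpr
      (H9CI.isCIKer_of_isRegular _ Ideal.Quotient.mk_surjective rs hreg Ideal.mk_ker)

/-- The local rings of a quotient of a regular ring. -/
theorem isCI_localization_quotient_iff {B : Type u} [CommRing B] [IsRegularRing B] (I : Ideal B)
    (Q : Ideal (B ⧸ I)) [Q.IsPrime] :
    Pi1.IsCompleteIntersection (Localization.AtPrime Q) ↔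
      ∃ rs : List (Localization.AtPrime (Q.comap (Ideal.Quotient.mk I))),
        Ideal.ofList rs = I.map (algebraMap B _) ∧ IsRegular (Localization.AtPrime (Q.comap (Ideal.Quotient.mk I))) rs := by
  let P := Q.comap (Ideal.Quotient.mk I)
  have hIP : I ≤ P := fun x hx => by
    rw [Ideal.mem_comap, Ideal.Quotient.eq_zero_iff_mem.mpr hx]; exact Q.zero_mem
  have hQ : P.map (Ideal.Quotient.mk I) = Q := Ideal.map_comap_of_surjective _ Ideal.Quotient.mk_surjective Q
  haveI : (P.map (Ideal.Quotient.mk I)).IsPrime := hQ ▸ ‹Q.IsPrime›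
  obtain ⟨e⟩ := exists_quotient_localization_equiv I P hIP
  have he : Nonempty ((Localization.AtPrime P ⧸ I.map (algebraMap B (Localization.AtPrime P))) ≃+*
      Localization.AtPrime Q) := by
    have aux : ∀ (Q' : Ideal (B ⧸ I)) [Q'.IsPrime], Q' = Q →
        Nonempty (Localization.AtPrime Q' ≃+* Localization.AtPrime Q) := by
      intro Q' _ h; subst h; exact ⟨RingEquiv.refl _⟩
    obtain ⟨e'⟩ := aux _ hQ
    exact ⟨e.trans e'⟩
  obtain ⟨e⟩ := he
  haveI : IsLocalRing (Localization.AtPrime P ⧸ I.map (algebraMap B (Localization.AtPrime P))) :=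
    e.symm.isLocalRing
  rw [← isCI_congr e]
  exact isCI_quotient_iff _

theorem isOpen_ciLocus {B : Type u} [CommRing B] [IsRegularRing B] (I : Ideal B) :
    IsOpen {q : PrimeSpectrum (B ⧸ I) | Pi1.IsCompleteIntersection (Localization.AtPrime q.asIdeal)} := by
  rw [isOpen_iff_forall_mem_open]
  intro q hq
  let P := q.asIdeal.comap (Ideal.Quotient.mk I)
  obtain ⟨rs, hrs, hreg⟩ := (isCI_localization_quotient_iff I q.asIdeal).mp hq
  obtain ⟨t, htP, b, hb⟩ := _root_.H13CInt.exists_away_isWeaklyRegular P I (fun i => rs.get i)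
    (by rw [List.ofFn_get]; exact hreg.toIsWeaklyRegular)
    (by rw [← hrs]; exact congrArg Ideal.span (Set.ext fun x => List.mem_iff_get))
  refine ⟨{r | Ideal.Quotient.mk I t ∉ r.asIdeal}, fun r hr => ?_, PrimeSpectrum.isOpen_basicOpen, htP⟩
  obtain ⟨hI, hw⟩ := hb (Localization.Away t)
  let P' := r.asIdeal.comap (Ideal.Quotient.mk I)
  have htP' : t ∉ P' := hr
  let A := Localization.AtPrime P'
  have hu : IsUnit (algebraMap B A t) := IsLocalization.map_units A (⟨t, htP'⟩ : P'.primeCompl)
  let φ : Localization.Away t →+* A := IsLocalization.Away.lift t hu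
  letI := φ.toAlgebra
  haveI : IsScalarTower B (Localization.Away t) A :=
    IsScalarTower.of_algebraMap_eq fun x => (IsLocalization.Away.lift_eq t hu x).symm
  haveI : Module.Flat (Localization.Away t) A := by
    haveI := IsLocalization.isLocalization_of_submonoid_le (Localization.Away t) A (Submonoid.powers t) P'.primeCompl
      (Submonoid.powers_le.mpr htP')
    exact IsLocalization.flat A ((P'.primeCompl).map (algebraMap B (Localization.Away t)))
  refine (isCI_localization_quotient_iff I r.asIdeal).mpr ⟨List.ofFn (algebraMap B A ∘ b), ?_, ?_⟩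
  · rw [show I.map (algebraMap B A) = (I.map (algebraMap B (Localization.Away t))).map (algebraMap _ A) by
      rw [Ideal.map_map, ← IsScalarTower.algebraMap_eq], hI, Ideal.map_span, ← Set.range_comp]
    refine congrArg Ideal.span (Set.ext fun x => ?_)
    simp [List.mem_ofFn, ← IsScalarTower.algebraMap_apply]
  · have h := IsWeaklyRegular.of_flat (S := A) hw
    rw [List.map_ofFn] at h
    have heq : (algebraMap (Localization.Away t) A ∘ algebraMap B (Localization.Away t) ∘ b) = algebraMap B A ∘ b :=
      funext fun i => (IsScalarTower.algebraMap_apply B (Localization.Away t) A (b i)).symm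
    rw [heq] at h
    refine (IsLocalRing.isRegular_iff_isWeaklyRegular_of_subset_maximalIdeal fun x hx => ?_).mpr h
    obtain ⟨i, rfl⟩ := List.mem_ofFn.mp hx
    refine (IsLocalization.AtPrime.to_map_mem_maximal_iff A P' _).mpr ?_
    by_contra hbP
    have hbI : algebraMap B (Localization.Away t) (b i) ∈ I.map (algebraMap B (Localization.Away t)) :=
      hI ▸ Ideal.subset_span ⟨i, rfl⟩
    obtain ⟨m, ⟨n, rfl⟩, hm⟩ :=
      (IsLocalization.algebraMap_mem_map_algebraMap_iff (Submonoid.powers t) _ I _).mp hbI
    have hmP : t ^ n * b i ∈ P' := by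
      show Ideal.Quotient.mk I (t ^ n * b i) ∈ r.asIdeal
      rw [Ideal.Quotient.eq_zero_iff_mem.mpr hm]; exact zero_mem _
    exact hbP (((inferInstance : P'.IsPrime).mem_or_mem hmP).resolve_left fun h => htP' (Ideal.IsPrime.mem_of_pow_mem inferInstance n h))

end Groth.Agent.H13CI
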