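import Groth.Agent.H13CI.Regular
import Groth.Agent.H29Slice.TransReg
import Groth.Agent.H8Props.FlatDepth

/-!
# Transversally regular sequences over Noetherian local rings
-/

set_option autoImplicit false
set_option linter.style.haveILetI false

universe u

open IsLocalRing RingTheory.Sequence

namespace Groth.Agent.H13CI

variable {A : Type u} [CommRing A] [IsLocalRing A] [IsNoetherianRing A]

/-- A sequence regular on the closed fibre is transversally regular. -/
theorem isTransRegularSeq_of_fibre : ∀ (n : ℕ) (C : Type u) [CommRing C] [IsLocalRing C]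
    [IsNoetherianRing C] [Algebra A C] [IsLocalHom (algebraMap A C)] [Module.Flat A C] (l : List C), l.length = n →
    (∀ x ∈ l, x ∈ maximalIdeal C) →
    IsWeaklyRegular (C ⧸ (maximalIdeal A).map (algebraMap A C)) l → RegImm.IsTransRegularSeq A C l := by
  intro n
  induction n with
  | zero =>
    intro C _ _ _ _ _ _ l hl _ _
    obtain rfl := List.length_eq_zero_iff.mp hl
    refine ⟨by simp, fun j _ => ?_⟩
    rw [List.take_nil, Ideal.ofList_nil]
    exact Module.Flat.of_linearEquiv (AlgEquiv.quotientBot A C).toLinearEquiv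
  | succ n ih =>
    intro C _ _ _ _ _ _ l hl hmem hreg
    obtain ⟨x, t, rfl⟩ := List.exists_cons_of_length_eq_add_one hl
    rw [isWeaklyRegular_cons_iff] at hreg
    obtain ⟨hx, ht⟩ := hreg
    have hxC := H8Props.FlatDepth.isSMulRegular_of_fibre hx
    haveI := H8Props.FlatDepth.flat_quotient_of_fibre hx
    refine H29Slice.isTransRegularSeq_cons x t (mem_nonZeroDivisors_iff_right.mpr fun a ha => hxC (by
      show x * a = x * 0
      rw [mul_zero, mul_comm, ha])) ?_
    let C' := C ⧸ Ideal.span {x}
    haveI : Nontrivial C' := Ideal.Quotient.nontrivial_iff.mpr fun h =>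
      (maximalIdeal.isMaximal C).ne_top (top_le_iff.mp (h ▸ (Ideal.span_singleton_le_iff_mem _).mpr (hmem x List.mem_cons_self)))
    haveI : IsLocalRing C' := IsLocalRing.of_surjective' _ Ideal.Quotient.mk_surjective
    haveI : IsLocalHom (Ideal.Quotient.mk (Ideal.span {x})) := Ideal.Quotient.mk_surjective.isLocalHom _
    haveI : IsLocalHom (algebraMap A C') :=
      inferInstanceAs (IsLocalHom ((Ideal.Quotient.mk (Ideal.span {x})).comp (algebraMap A C)))
    have hlen : (t.map (Ideal.Quotient.mk (Ideal.span {x}))).length = n := by simpa using hl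
    refine ih C' _ hlen (fun y hy => ?_) ?_
    · obtain ⟨z, hz, rfl⟩ := List.mem_map.mp hy
      exact map_nonunit _ _ (hmem z (List.mem_cons_of_mem _ hz))
    · -- the fibre of the quotient
      let m := (maximalIdeal A).map (algebraMap A C)
      let m' := (maximalIdeal A).map (algebraMap A C')
      have hm' : m' = m.map (Ideal.Quotient.mk (Ideal.span {x})) := by
        rw [Ideal.map_map]; rfl
      let e : (C' ⧸ m') ≃+* C ⧸ (Ideal.span {x} ⊔ m) :=
        (Ideal.quotEquivOfEq hm').trans (DoubleQuot.quotQuotEquivQuotSup _ _)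
      let e' : QuotSMulTop x (C ⧸ m) ≃ₗ[C] C ⧸ (Ideal.span {x} ⊔ m) :=
        (Submodule.quotEquivOfEq _ _ (by
          rw [← Submodule.ideal_span_singleton_smul, Ideal.smul_top_eq_map, Ideal.Quotient.algebraMap_eq]
          rfl)).trans ((Submodule.Quotient.restrictScalarsEquiv C _).trans
          ((DoubleQuot.quotQuotEquivQuotSupₐ C m (Ideal.span {x})).trans
            (Ideal.quotientEquivAlgOfEq C (sup_comm _ _))).toLinearEquiv)
      have ht' : IsWeaklyRegular (C ⧸ (Ideal.span {x} ⊔ m)) t := (e'.isWeaklyRegular_congr t).mp ht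
      refine (isWeaklyRegular_map_algebraMap_iff C' (C' ⧸ m') t).mpr ?_
      refine (LinearEquiv.isWeaklyRegular_congr ({ e.toAddEquiv with map_smul' := fun c z => ?_ } : (C' ⧸ m') ≃ₗ[C] C ⧸ (Ideal.span {x} ⊔ m)) t).mpr ht'
      obtain ⟨z, rfl⟩ := Ideal.Quotient.mk_surjective z
      obtain ⟨z, rfl⟩ := Ideal.Quotient.mk_surjective z
      rfl

/-- Elements of an ideal with flat quotient which lie in the special fibre come from the maximal ideal. -/
theorem inf_le_mul_of_flat {C B : Type u} [CommRing C] [IsLocalRing C] [Algebra A C] [IsLocalHom (algebraMap A C)]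
    [CommRing B] [Algebra C B] [Algebra A B] [IsScalarTower A C B] (hsurj : Function.Surjective (algebraMap C B))
    [Module.Flat A B] :
    RingHom.ker (algebraMap C B) ⊓ (maximalIdeal A).map (algebraMap A C) ≤
      maximalIdeal C * RingHom.ker (algebraMap C B) := by
  classical
  intro z hz
  obtain ⟨hz1, hz2⟩ := Submodule.mem_inf.mp hz
  obtain ⟨n, x, hx⟩ := Submodule.fg_iff_exists_fin_generating_family.mp (IsNoetherian.noetherian (maximalIdeal A))
  have hxm : ∀ i, x i ∈ maximalIdeal A := fun i => hx ▸ Submodule.subset_span ⟨i, rfl⟩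
  have hspan : (maximalIdeal A).map (algebraMap A C) = Ideal.span (Set.range (algebraMap A C ∘ x)) := by
    rw [← hx, Set.range_comp]
    exact Ideal.map_span _ _
  rw [hspan] at hz2
  obtain ⟨s, rfl⟩ := Ideal.mem_span_range_iff_exists_fun.mp hz2
  let g := algebraMap C B
  have hrel : ∑ i, x i • g (s i) = 0 := by
    rw [RingHom.mem_ker, map_sum] at hz1
    refine Eq.trans (Finset.sum_congr rfl fun i _ => ?_) hz1
    rw [Function.comp_apply, Algebra.smul_def, map_mul, IsScalarTower.algebraMap_apply A C B, mul_comm]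
  obtain ⟨k, a, y, hy, ha⟩ := Module.Flat.isTrivialRelation_of_sum_smul_eq_zero (R := A) (M := B) hrel
  choose t ht using fun j => hsurj (y j)
  let e : Fin n → C := fun i => s i - ∑ j, algebraMap A C (a i j) * t j
  have he : ∀ i, e i ∈ RingHom.ker g := fun i => by
    rw [RingHom.mem_ker, map_sub, show g (s i) = _ from hy i, map_sum, sub_eq_zero]
    refine Finset.sum_congr rfl fun j _ => ?_
    rw [Algebra.smul_def, map_mul, ht, ← IsScalarTower.algebraMap_apply]
  have hz : ∑ i, s i * (algebraMap A C ∘ x) i = ∑ i, algebraMap A C (x i) * e i := by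
    have h : ∀ i, s i * algebraMap A C (x i) = (∑ j, algebraMap A C (x i * a i j) * t j) + algebraMap A C (x i) * e i := fun i => by
      simp only [e, mul_sub, Finset.mul_sum, map_mul, mul_assoc]
      ring
    simp only [Function.comp_apply]
    rw [Finset.sum_congr rfl fun i _ => h i, Finset.sum_add_distrib, Finset.sum_comm,
      add_eq_right]
    refine Finset.sum_eq_zero fun j _ => ?_
    rw [← Finset.sum_mul, ← map_sum, ha j, map_zero, zero_mul]
  rw [hz]
  exact Ideal.sum_mem _ fun i _ => Ideal.mul_mem_mul (map_nonunit _ _ (hxm i)) (he i)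

end Groth.Agent.H13CI
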