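import Groth.Agent.H26Base.HartogsBig
import Groth.Agent.H29Fitt.FreeLocal
import Groth.Agent.H11Tilde.ModLoc

/-!
Finite locally free modules extend across closed subsets with regular pairs.
-/

set_option backward.isDefEq.respectTransparency false

universe u

open CategoryTheory CategoryTheory.Limits AlgebraicGeometry TopologicalSpace Opposite

namespace Groth.Agent.H13HartogsFree

variable {X : Scheme.{u}}

/-- A morphism of modules which is bijective on a basis of opens is an isomorphism. -/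
theorem isIso_of_bijective_basis {M N : X.Modules} (ψ : M ⟶ N) (B : X.Opens → Prop)
    (hB : ∀ (W : X.Opens) (x : X), x ∈ W → ∃ U, B U ∧ x ∈ U ∧ U ≤ W)
    (h : ∀ U, B U → Function.Bijective (ψ.app U)) : IsIso ψ := by
  haveI : IsIso ((H10Coh.shF X).map ψ) := by
    refine TopCat.Sheaf.isIso_iff_isIso_basis (B := fun i : {U : X.Opens // B U} => i.1) ?_
      fun i => (ConcreteCategory.isIso_iff_bijective _).2 (h i.1 i.2)
    rw [Opens.isBasis_iff_nbhd]
    intro W x hx
    obtain ⟨U, hU, hxU, hle⟩ := hB W x hx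
    exact ⟨U, ⟨⟨U, hU⟩, rfl⟩, hxU, hle⟩
  exact isIso_of_reflects_iso ψ (H10Coh.shF X)

theorem bij_congr (E : X.Modules) {V V₁ V' V'₁ : X.Opens} (e : V = V₁) (e' : V' = V'₁) (h : V' ≤ V)
    (h₁ : V'₁ ≤ V₁) (hb : Function.Bijective (E.presheaf.map (homOfLE h).op)) :
    Function.Bijective (E.presheaf.map (homOfLE h₁).op) := by
  subst e e'
  exact hb

theorem bij_congr' {V V₁ V' V'₁ : X.Opens} (e : V = V₁) (e' : V' = V'₁) (h : V' ≤ V)
    (h₁ : V'₁ ≤ V₁) (hb : Function.Bijective (X.presheaf.map (homOfLE h).op)) :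
    Function.Bijective (X.presheaf.map (homOfLE h₁).op) := by
  subst e e'
  exact hb

/-- A direct sum of finitely many copies of the structure sheaf inherits bijectivity of restrictions. -/
theorem bijective_res_free {n : ℕ} {F : X.Modules} (e : F ≅ FlatMod.freeMod X n) {A A' : X.Opens} (hle : A' ≤ A)
    (hb : Function.Bijective (X.presheaf.map (homOfLE hle).op)) :
    Function.Bijective (F.presheaf.map (homOfLE hle).op) := by
  obtain ⟨p₀, -, hp⟩ := H29Fitt.exists_coord (X := X) n
  let q : Fin n → (F ⟶ Coh.structureModule X) := fun i => e.hom ≫ p₀ i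
  let c : Fin n → (Coh.structureModule X ⟶ F) := fun i =>
    Sigma.ι (fun _ : Fin n => Coh.structureModule X) i ≫ e.inv
  have hid : ∑ i, q i ≫ c i = 𝟙 F := by
    simp only [q, c, Category.assoc]
    rw [← Preadditive.comp_sum]
    have : ∑ i, p₀ i ≫ Sigma.ι (fun _ : Fin n => Coh.structureModule X) i ≫ e.inv =
        (∑ i, p₀ i ≫ Sigma.ι (fun _ : Fin n => Coh.structureModule X) i) ≫ e.inv := by
      rw [Preadditive.sum_comp]
      simp only [Category.assoc]
    rw [this, hp, Category.id_comp, e.hom_inv_id]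
  have dec : ∀ (B : X.Opens) (s : Γ(F, B)), s = ∑ i, (c i).app B ((q i).app B s) := fun B s =>
    ((congrArg (fun φ : F ⟶ F => φ.app B s) hid).symm.trans (H10Coh.app_sum_apply _ B s)).trans rfl
  refine ⟨(injective_iff_map_eq_zero _).2 fun s hs => ?_, fun t => ?_⟩
  · rw [dec A s]
    refine Finset.sum_eq_zero fun i _ => ?_
    rw [show (q i).app A s = 0 from hb.1 (by
      refine Eq.trans ?_ (map_zero _).symm
      refine (H11Tilde.app_map_apply (q i) _ s).symm.trans ?_
      rw [hs, map_zero])]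
    exact map_zero _
  · choose r hr using fun i => hb.2 ((q i).app A' t)
    refine ⟨∑ i, (c i).app A (r i), ?_⟩
    rw [map_sum, dec A' t]
    refine Finset.sum_congr rfl fun i _ => ?_
    rw [← H11Tilde.app_map_apply]
    exact congrArg _ (hr i)

/-- Finite locally free modules extend across closed subsets with regular pairs. -/
theorem isIso_unit {E : X.Modules} (hE : FlatMod.IsFinLocFree E) {W : X.Opens}
    (hW : H26Base.HartogsBig.HasPairsNhd W) :
    IsIso ((Scheme.Modules.restrictAdjunction W.ι).unit.app E) := by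
  refine isIso_of_bijective_basis _
    (fun V => IsAffineOpen V ∧ ∃ (U : X.Opens) (n : ℕ), V ≤ U ∧ Nonempty (E.restrict U.ι ≅ FlatMod.freeMod (↑U) n))
    (fun O x hx => ?_) ?_
  · obtain ⟨U, n, hxU, he⟩ := hE x
    obtain ⟨V, hV, hxV, hle⟩ := exists_isAffineOpen_mem_and_subset (U := O ⊓ U) (x := x) ⟨hx, hxU⟩
    exact ⟨V, ⟨hV, U, n, fun y hy => (hle hy).2, he⟩, hxV, fun y hy => (hle hy).1⟩
  rintro V ⟨hV, U, n, hVU, ⟨e⟩⟩
  rw [Scheme.Modules.restrictAdjunction_unit_app_app]
  let A : (U : Scheme.{u}).Opens := U.ι ⁻¹ᵁ V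
  let A' : (U : Scheme.{u}).Opens := U.ι ⁻¹ᵁ (W ⊓ V)
  have hA : U.ι ''ᵁ A = V := by
    rw [Scheme.Hom.image_preimage_eq_opensRange_inf, Scheme.Opens.opensRange_ι]
    exact inf_eq_right.2 hVU
  have hA' : U.ι ''ᵁ A' = W ⊓ V := by
    rw [Scheme.Hom.image_preimage_eq_opensRange_inf, Scheme.Opens.opensRange_ι]
    exact inf_eq_right.2 (inf_le_right.trans hVU)
  have hWV : W.ι ''ᵁ (W.ι ⁻¹ᵁ V) = W ⊓ V := by
    rw [Scheme.Hom.image_preimage_eq_opensRange_inf, Scheme.Opens.opensRange_ι]
  have hle : A' ≤ A := fun _ h => h.2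
  refine bij_congr E hA (hA'.trans hWV.symm) (U.ι.image_mono hle) _ ?_
  exact bijective_res_free e hle
    (bij_congr' hA.symm hA'.symm _ (U.ι.image_mono hle) (H26Base.HartogsBig.bijective_restrict hW hV))

end Groth.Agent.H13HartogsFree
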