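import Groth.Agent.H13CI.Regular
import Groth.Agent.H29Slice.FibreReg
import Groth.Agent.H29Slice.QBaseChange
import Groth.Agent.H29Slice.QuasiReg
import Groth.Agent.H29Slice.QRegular
import Groth.Agent.H29Slice.SeqOps
import Groth.Agent.H13CInt.Spread
import Groth.Agent.H06QR.Regular

/-!
# Regular sequences and their restriction to a fibre
-/

set_option autoImplicit false
set_option linter.style.haveILetI false

universe u

open RingTheory.Sequence IsLocalRing
open scoped TensorProduct

namespace Groth.Agent.H13CI.FibreImm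

variable {A B : Type u} [CommRing A] [CommRing B] [Algebra A B] (q : Ideal B) [q.IsPrime]
  (L : Type u) [CommRing L] [Algebra B L] [IsLocalization.AtPrime L q]

/-- The ideal of the fibre through `q`. -/
abbrev fibreIdeal : Ideal B := (q.comap (algebraMap A B)).map (algebraMap A B)

/-- The map to the local ring of the fibre. -/
abbrev toFibre : B →+* L ⧸ (fibreIdeal (A := A) q).map (algebraMap B L) :=
  (Ideal.Quotient.mk _).comp (algebraMap B L)

theorem fibreIdeal_le : fibreIdeal (A := A) q ≤ q := Ideal.map_comap_le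

theorem exists_mul_mem (K : Ideal B) (k : B) (hk : toFibre (A := A) q L k ∈ K.map (toFibre (A := A) q L)) :
    ∃ t ∉ q, t * k ∈ K ⊔ fibreIdeal (A := A) q := by
  have h1 : algebraMap B L k ∈ (K ⊔ fibreIdeal (A := A) q).map (algebraMap B L) := by
    rw [← Ideal.map_map] at hk
    have h2 : algebraMap B L k ∈ Ideal.comap (Ideal.Quotient.mk ((fibreIdeal (A := A) q).map (algebraMap B L)))
        ((K.map (algebraMap B L)).map (Ideal.Quotient.mk _)) := hk
    rw [Ideal.comap_map_of_surjective _ Ideal.Quotient.mk_surjective, ← RingHom.ker_eq_comap_bot,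
      Ideal.mk_ker, ← Ideal.map_sup] at h2
    exact h2
  obtain ⟨t, ht, htk⟩ := (IsLocalization.algebraMap_mem_map_algebraMap_iff q.primeCompl L _ _).mp h1
  exact ⟨t, ht, htk⟩

theorem isUnit_toFibre {t : B} (ht : t ∉ q) : IsUnit (toFibre (A := A) q L t) :=
  (IsLocalization.map_units L (⟨t, ht⟩ : q.primeCompl)).map (Ideal.Quotient.mk _)

theorem isLocalRing_fibre : IsLocalRing (L ⧸ (fibreIdeal (A := A) q).map (algebraMap B L)) := by
  haveI : IsLocalRing L := IsLocalization.AtPrime.isLocalRing L q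
  haveI : Nontrivial (L ⧸ (fibreIdeal (A := A) q).map (algebraMap B L)) := by
    refine Ideal.Quotient.nontrivial_iff.mpr (ne_top_of_le_ne_top (maximalIdeal.isMaximal L).ne_top ?_)
    rw [← IsLocalization.AtPrime.map_eq_maximalIdeal q L]
    exact Ideal.map_mono (fibreIdeal_le q)
  exact .of_surjective' _ Ideal.Quotient.mk_surjective

theorem toFibre_mem [IsLocalRing (L ⧸ (fibreIdeal (A := A) q).map (algebraMap B L))] {x : B} (hx : x ∈ q) :
    toFibre (A := A) q L x ∈ maximalIdeal (L ⧸ (fibreIdeal (A := A) q).map (algebraMap B L)) := by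
  haveI : IsLocalRing L := IsLocalization.AtPrime.isLocalRing L q
  haveI : IsLocalHom (Ideal.Quotient.mk ((fibreIdeal (A := A) q).map (algebraMap B L))) :=
    Ideal.Quotient.mk_surjective.isLocalHom _
  have h1 : algebraMap B L x ∈ maximalIdeal L := by
    rw [← IsLocalization.AtPrime.map_eq_maximalIdeal q L]
    exact Ideal.mem_map_of_mem _ hx
  exact fun hu => h1 (isUnit_of_map_unit (Ideal.Quotient.mk _) _ hu)

/-- Generators of an ideal, regular on a fibre of a flat algebra, give a regular sequence generating it nearby. -/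
theorem exists_regular_nhd [Algebra.FinitePresentation A B] [Module.Flat A B] (J : Ideal B) (hJ : J.FG)
    [Module.Flat A (B ⧸ J)] (hJq : J ≤ q)
    [IsNoetherianRing (L ⧸ (fibreIdeal (A := A) q).map (algebraMap B L))]
    (rs : List (L ⧸ (fibreIdeal (A := A) q).map (algebraMap B L)))
    (hrs : IsWeaklyRegular (L ⧸ (fibreIdeal (A := A) q).map (algebraMap B L)) rs)
    (hspan : Ideal.ofList rs = J.map (toFibre (A := A) q L)) :
    ∃ b ∉ q, ∃ fs : List B, ∀ (T : Type u) [CommRing T] [Algebra A T] [Algebra B T] [IsScalarTower A B T]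
      [IsLocalization.Away b T], IsWeaklyRegular T (fs.map (algebraMap B T)) ∧
        J.map (algebraMap B T) = Ideal.ofList (fs.map (algebraMap B T)) := by
  haveI := isLocalRing_fibre (A := A) q L
  let R := L ⧸ (fibreIdeal (A := A) q).map (algebraMap B L)
  let ψ : B →+* R := toFibre (A := A) q L
  have hspan' : Ideal.span (Set.range rs.get) = J.map ψ := by
    refine Eq.trans ?_ hspan
    rw [Ideal.ofList, Set.range_list_get]
  have hlift : ∀ j, ∃ k ∈ J, ∃ u : R, IsUnit u ∧ ψ k = rs.get j * u := fun j => by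
    have hj : rs.get j ∈ (J.map (algebraMap B L)).map
        (Ideal.Quotient.mk ((fibreIdeal (A := A) q).map (algebraMap B L))) :=
      ((Ideal.map_map (I := J) (algebraMap B L)
        (Ideal.Quotient.mk ((fibreIdeal (A := A) q).map (algebraMap B L)))).symm ▸
        hspan'.le (Ideal.subset_span ⟨j, rfl⟩) :)
    obtain ⟨y, hy, hyj⟩ := (Ideal.mem_map_iff_of_surjective _ Ideal.Quotient.mk_surjective).mp hj
    obtain ⟨⟨⟨k, hk⟩, t⟩, hkt⟩ := (IsLocalization.mem_map_algebraMap_iff q.primeCompl L).mp hy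
    refine ⟨k, hk, ψ t, isUnit_toFibre q L t.2, ?_⟩
    show Ideal.Quotient.mk _ (algebraMap B L k) = _ * Ideal.Quotient.mk _ (algebraMap B L t)
    rw [← hyj, ← map_mul]
    exact congrArg (Ideal.Quotient.mk _) hkt.symm
  choose f hfJ u hu hfu using hlift
  have hfspan : Ideal.span (Set.range fun j => ψ (f j)) = Ideal.span (Set.range rs.get) := by
    refine le_antisymm (Ideal.span_le.mpr ?_) (Ideal.span_le.mpr ?_)
    · rintro _ ⟨j, rfl⟩
      show ψ (f j) ∈ Ideal.span (Set.range rs.get)
      exact (hfu j).symm ▸ Ideal.mul_mem_right (u j) _ (Ideal.subset_span ⟨j, rfl⟩)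
    · rintro _ ⟨j, rfl⟩
      exact (Ideal.mul_unit_mem_iff_mem _ (hu j)).mp (hfu j ▸ Ideal.subset_span ⟨j, rfl⟩)
  have hfq : CAlgX.IsQuasiRegular fun j => ψ (f j) :=
    H06QR.isQuasiRegular_of_span_eq (f := rs.get) (H06QR.Regular.isQuasiRegular_of_isWeaklyRegular _
      (by rwa [List.ofFn_get])) _ hfspan
  have hwR : IsWeaklyRegular R (List.ofFn fun j => ψ (f j)) := by
    refine H29Slice.isWeaklyRegular_of_isQuasiRegular R _ (fun j => ?_) hfq
    rw [jacobson_eq_maximalIdeal ⊥ bot_ne_top]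
    exact toFibre_mem q L (hJq (hfJ j))
  have hreg : H29Slice.RegOnFibre (A := A) f q := by
    intro j c t ht hcmem
    refine exists_mul_mem q L _ c ?_
    have h1 : ψ (t * (f j * c)) ∈ (Ideal.span (f '' Set.Iio j)).map ψ := by
      obtain ⟨a, ha, b, hb, hab⟩ := Submodule.mem_sup.mp hcmem
      rw [← hab, map_add]
      refine add_mem (Ideal.mem_map_of_mem ψ ha) ?_
      have h2 : ψ b = 0 := Ideal.Quotient.eq_zero_iff_mem.mpr (Ideal.mem_map_of_mem _ hb)
      rw [h2]; exact zero_mem _
    rw [map_mul, Ideal.unit_mul_mem_iff_mem _ (isUnit_toFibre q L ht), map_mul, Ideal.map_span,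
      Set.image_image, mul_comm] at h1
    rw [Ideal.map_span, Set.image_image]
    exact (_root_.H13CInt.isWeaklyRegular_ofFn_iff _).mp hwR j (ψ c) h1
  obtain ⟨b₁, hb₁, htr⟩ := H29Slice.exists_transReg_of_fibre (A := A) B f ⟨q, inferInstance⟩
    (fun j => hJq (hfJ j)) hreg
  obtain ⟨b₂, hb₂, hgen⟩ := H29Slice.exists_mul_mem_of_fibre (A := A) J (Ideal.span (Set.range f)) hJ
    (Ideal.span_le.mpr (by rintro _ ⟨j, rfl⟩; exact hfJ j)) ⟨q, inferInstance⟩ fun k hk =>
      exists_mul_mem q L _ k (by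
        have e : (Ideal.span (Set.range f)).map ψ = J.map ψ := by
          rw [Ideal.map_span, ← Set.range_comp]
          exact hfspan.trans hspan'
        exact e.ge (Ideal.mem_map_of_mem ψ hk))
  refine ⟨b₁ * b₂, fun h => (Ideal.IsPrime.mem_or_mem ‹_› h).elim hb₁ hb₂, List.ofFn f,
    fun T _ _ _ _ _ => ⟨?_, ?_⟩⟩
  · let L₁ := Localization.Away b₁
    have hw₁ := (htr L₁).1
    let L₂ := Localization.Away (algebraMap B L₁ b₂)
    haveI : IsLocalization.Away (b₁ * b₂) L₂ := IsLocalization.Away.mul' L₁ L₂ b₁ b₂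
    haveI : Module.Flat L₁ L₂ := IsLocalization.flat L₂ (Submonoid.powers (algebraMap B L₁ b₂))
    have hw₂ := IsWeaklyRegular.of_flat (S := L₂) hw₁
    rw [List.map_map, ← RingHom.coe_comp, ← IsScalarTower.algebraMap_eq] at hw₂
    let e₂ : L₂ ≃ₐ[B] T := IsLocalization.algEquiv (Submonoid.powers (b₁ * b₂)) L₂ T
    refine (AddEquiv.isWeaklyRegular_congr (e := e₂.toAddEquiv) ?_).mp hw₂
    rw [List.forall₂_map_left_iff, List.forall₂_map_right_iff, List.forall₂_same]
    intro r _ x
    show e₂ (algebraMap B L₂ r * x) = algebraMap B T r * e₂ x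
    rw [map_mul, AlgEquiv.commutes]
  · have hub : IsUnit (algebraMap B T b₂) :=
      isUnit_of_dvd_unit (map_dvd _ (dvd_mul_left b₂ b₁)) (IsLocalization.Away.algebraMap_isUnit _)
    rw [← Ideal.map_ofList, show Ideal.ofList (List.ofFn f) = Ideal.span (Set.range f) from
      congrArg Ideal.span (Set.ext fun y => List.mem_ofFn)]
    refine le_antisymm (Ideal.map_le_iff_le_comap.mpr fun k hk => ?_)
      (Ideal.map_mono (Ideal.span_le.mpr (by rintro _ ⟨j, rfl⟩; exact hfJ j)))
    rw [Ideal.mem_comap]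
    refine (Ideal.unit_mul_mem_iff_mem _ hub).mp ?_
    exact (map_mul (algebraMap B T) b₂ k) ▸ Ideal.mem_map_of_mem _ (hgen k hk)

/-- A regular sequence with flat quotient stays regular in the local ring of the fibre. -/
theorem isWeaklyRegular_fibre (rs : List B) [Module.Flat A (B ⧸ Ideal.ofList rs)]
    (hrs : IsWeaklyRegular B rs) (hq : ∀ r ∈ rs, r ∈ q)
    [IsNoetherianRing (L ⧸ (fibreIdeal (A := A) q).map (algebraMap B L))] :
    IsWeaklyRegular (L ⧸ (fibreIdeal (A := A) q).map (algebraMap B L)) (rs.map (toFibre (A := A) q L)) := by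
  haveI := isLocalRing_fibre (A := A) q L
  let p := q.comap (algebraMap A B)
  let P := fibreIdeal (A := A) q
  let R := L ⧸ P.map (algebraMap B L)
  haveI : Module.Flat A (B ⧸ Ideal.span (Set.range rs.get)) := by
    rw [show Ideal.span (Set.range rs.get) = Ideal.ofList rs by rw [Ideal.ofList, Set.range_list_get]]
    infer_instance
  have hq₁ := H29Slice.isQuasiRegular_baseChange A B (A ⧸ p) rs.get
    (H06QR.Regular.isQuasiRegular_of_isWeaklyRegular _ (by rwa [List.ofFn_get]))
  let e : ((A ⧸ p) ⊗[A] B) ≃ₐ[A] B ⧸ P :=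
    (Algebra.TensorProduct.comm A (A ⧸ p) B).trans
      ((Algebra.TensorProduct.quotIdealMapEquivTensorQuot B p).symm.restrictScalars A)
  letI : Algebra ((A ⧸ p) ⊗[A] B) (B ⧸ P) := e.toAlgHom.toRingHom.toAlgebra
  haveI := H29Slice.isLocalization_bot_of_bijective (R := (A ⧸ p) ⊗[A] B) (L := B ⧸ P) e.bijective
  have hq₂ := H29Slice.isQuasiRegular_localization (L := B ⧸ P) (⊥ : Submonoid ((A ⧸ p) ⊗[A] B)) hq₁
  have he : (fun i => algebraMap ((A ⧸ p) ⊗[A] B) (B ⧸ P) ((1 : A ⧸ p) ⊗ₜ[A] rs.get i)) =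
      fun i => Ideal.Quotient.mk P (rs.get i) := funext fun i => by
    show (Algebra.TensorProduct.quotIdealMapEquivTensorQuot B p).symm
      (rs.get i ⊗ₜ[A] (1 : A ⧸ p)) = _
    rw [AlgEquiv.symm_apply_eq]
    exact (Algebra.TensorProduct.quotIdealMapEquivTensorQuot_mk (B := B) p (rs.get i)).symm
  rw [he] at hq₂
  haveI : IsLocalization (Algebra.algebraMapSubmonoid (B ⧸ P) q.primeCompl) R := inferInstance
  have hq₃ := H29Slice.isQuasiRegular_localization (L := R) (Algebra.algebraMapSubmonoid (B ⧸ P) q.primeCompl) hq₂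
  have hw := H29Slice.isWeaklyRegular_of_isQuasiRegular R _ (fun j => ?_) hq₃
  · have e₁ : rs.map (toFibre (A := A) q L) =
        List.ofFn fun i => algebraMap (B ⧸ P) R (Ideal.Quotient.mk P (rs.get i)) := by
      conv_lhs => rw [← List.ofFn_get rs, List.map_ofFn]
      rfl
    rw [e₁]
    exact hw
  · rw [jacobson_eq_maximalIdeal ⊥ bot_ne_top]
    exact toFibre_mem q L (hq _ (List.get_mem rs j))

/-- `exists_regular_nhd` for any ideal equal to the ideal of the fibre. -/
theorem exists_regular_nhd' [Algebra.FinitePresentation A B] [Module.Flat A B] (J : Ideal B) (hJ : J.FG)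
    [Module.Flat A (B ⧸ J)] (hJq : J ≤ q) (I : Ideal L) (hI : I = (fibreIdeal (A := A) q).map (algebraMap B L))
    [IsNoetherianRing (L ⧸ I)] (rs : List (L ⧸ I)) (hrs : IsWeaklyRegular (L ⧸ I) rs)
    (hspan : Ideal.ofList rs = J.map ((Ideal.Quotient.mk I).comp (algebraMap B L))) :
    ∃ b ∉ q, ∃ fs : List B, ∀ (T : Type u) [CommRing T] [Algebra A T] [Algebra B T] [IsScalarTower A B T]
      [IsLocalization.Away b T], IsWeaklyRegular T (fs.map (algebraMap B T)) ∧
        J.map (algebraMap B T) = Ideal.ofList (fs.map (algebraMap B T)) := by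
  subst hI
  exact exists_regular_nhd q L J hJ hJq rs hrs hspan

/-- `isWeaklyRegular_fibre` for any ideal equal to the ideal of the fibre. -/
theorem isRegular_fibre' (rs : List B) [Module.Flat A (B ⧸ Ideal.ofList rs)]
    (hrs : IsWeaklyRegular B rs) (hq : ∀ r ∈ rs, r ∈ q) (I : Ideal L)
    (hI : I = (fibreIdeal (A := A) q).map (algebraMap B L)) [IsNoetherianRing (L ⧸ I)] :
    IsRegular (L ⧸ I) (rs.map ((Ideal.Quotient.mk I).comp (algebraMap B L))) := by
  subst hI
  haveI := isLocalRing_fibre (A := A) q L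
  refine ⟨isWeaklyRegular_fibre q L rs hrs hq, ?_⟩
  rw [smul_eq_mul, Ideal.mul_top]
  refine (ne_top_of_le_ne_top (maximalIdeal.isMaximal _).ne_top (Ideal.span_le.mpr ?_)).symm
  intro r hr
  obtain ⟨r, hr', rfl⟩ := List.mem_map.mp hr
  exact toFibre_mem q _ (hq r hr')

end Groth.Agent.H13CI.FibreImm
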