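import Groth.Agent.H13CI.Regular

/-!
# Ascent of the complete intersection property along flat local maps, over regular presentations
-/

set_option autoImplicit false
set_option linter.style.haveILetI false

universe u

open IsLocalRing RingTheory.Sequence

namespace Groth.Agent.H13CI

open H9CI (IsCIKer exists_nat_dim)

/-- Let `R → S` be a flat local map of regular local rings with regular closed fibre, compatible with
surjections `R → A`, `S → B`, and `B` flat over `A`. If `A` and the closed fibre of `B` are complete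
intersections, so is `B`. -/
theorem isCI_of_flat_of_fibre {R S A B : Type u} [CommRing R] [IsRegularLocalRing R] [CommRing S] [IsRegularLocalRing S]
    [CommRing A] [IsLocalRing A] [CommRing B] [IsLocalRing B] [IsNoetherianRing B]
    (φ : R →+* S) (hφ : φ.Flat) [IsLocalHom φ] (hfib : IsRegularLocalRing (S ⧸ (maximalIdeal R).map φ))
    (f : R →+* A) (hf : Function.Surjective f) (g : S →+* B) (hg : Function.Surjective g)
    (ψ : A →+* B) (hψ : ψ.Flat) (hcomm : g.comp φ = ψ.comp f)
    [IsLocalRing (B ⧸ (maximalIdeal A).map ψ)]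
    (hA : Pi1.IsCompleteIntersection A) (hF : Pi1.IsCompleteIntersection (B ⧸ (maximalIdeal A).map ψ)) :
    Pi1.IsCompleteIntersection B := by
  classical
  haveI : IsLocalHom f := hf.isLocalHom f
  haveI : IsLocalHom g := hg.isLocalHom g
  haveI : IsLocalHom ψ := ⟨fun a ha => by
    obtain ⟨r, rfl⟩ := hf a
    rw [show ψ (f r) = g (φ r) from (RingHom.congr_fun hcomm r).symm] at ha
    exact (isUnit_of_map_unit φ r (isUnit_of_map_unit g _ ha)).map f⟩
  haveI : IsNoetherianRing A := isNoetherianRing_of_surjective R A f hf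
  rw [isCI_iff g hg]
  have hA' := (isCI_iff f hf).mp hA
  haveI := hfib
  let mS : Ideal S := (maximalIdeal R).map φ
  let mB : Ideal B := (maximalIdeal A).map ψ
  have hmB : mS.map g = mB := by
    rw [Ideal.map_map, hcomm, ← Ideal.map_map, IsLocalRing.map_maximalIdeal_of_surjective f hf]
  let gbar : (S ⧸ mS) →+* (B ⧸ mB) := Ideal.quotientMap mB g (Ideal.map_le_iff_le_comap.mp hmB.le)
  have hgbar : Function.Surjective gbar := Ideal.quotientMap_surjective hg
  have hF' := (isCI_iff gbar hgbar).mp hF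
  -- lifts of the equations of the fibre
  have hkbar : RingHom.ker gbar = (RingHom.ker g).map (Ideal.Quotient.mk mS) := by
    refine le_antisymm (fun z hz => ?_) (Ideal.map_le_iff_le_comap.mpr fun s hs => ?_)
    · obtain ⟨s, rfl⟩ := Ideal.Quotient.mk_surjective z
      rw [RingHom.mem_ker, show gbar (Ideal.Quotient.mk mS s) = Ideal.Quotient.mk mB (g s) from rfl,
        Ideal.Quotient.eq_zero_iff_mem, ← hmB] at hz
      obtain ⟨t, ht, hts⟩ := (Ideal.mem_map_iff_of_surjective g hg).mp hz
      have : Ideal.Quotient.mk mS s = Ideal.Quotient.mk mS (s - t) := by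
        rw [map_sub, Ideal.Quotient.eq_zero_iff_mem.mpr ht, sub_zero]
      rw [this]
      exact Ideal.mem_map_of_mem _ (by rw [RingHom.mem_ker, map_sub, hts, sub_self])
    · show gbar (Ideal.Quotient.mk mS s) = 0
      rw [show gbar (Ideal.Quotient.mk mS s) = Ideal.Quotient.mk mB (g s) from rfl, RingHom.mem_ker.mp hs, map_zero]
  obtain ⟨c, b, hb⟩ : ∃ (c : ℕ) (b : Finset S), b.card ≤ c ∧ c = (RingHom.ker gbar).spanFinrank ∧
      (b : Set S) ⊆ RingHom.ker g ∧ (Ideal.span (b : Set S)).map (Ideal.Quotient.mk mS) = RingHom.ker gbar := by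
    have hfg := IsNoetherian.noetherian (RingHom.ker gbar)
    have hfin := hfg.finite_generators
    have hlift : ∀ z ∈ Submodule.generators (RingHom.ker gbar), ∃ s ∈ RingHom.ker g, Ideal.Quotient.mk mS s = z :=
      fun z hz => (Ideal.mem_map_iff_of_surjective _ Ideal.Quotient.mk_surjective).mp (by
        rw [← hkbar]
        exact (Submodule.span_generators (RingHom.ker gbar)).le (Submodule.subset_span hz))
    choose! l hl1 hl2 using hlift
    refine ⟨_, hfin.toFinset.image l, ?_, rfl, ?_, ?_⟩
    · refine Finset.card_image_le.trans (le_of_eq ?_)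
      rw [← Set.ncard_eq_toFinset_card _ hfin, hfg.generators_ncard]
    · intro s hs
      obtain ⟨z, hz, rfl⟩ := Finset.mem_image.mp (Finset.mem_coe.mp hs)
      exact hl1 z (hfin.mem_toFinset.mp hz)
    · rw [Ideal.map_span, Finset.coe_image, ← Set.image_comp, Set.Finite.coe_toFinset,
        Set.image_congr (f := (Ideal.Quotient.mk mS) ∘ l) (g := id) (fun z hz => hl2 z hz), Set.image_id]
      exact Submodule.span_generators _
  obtain ⟨hbc, rfl, hbJ, hbmap⟩ := hb
  let IS : Ideal S := (RingHom.ker f).map φ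
  have hISJ : IS ≤ RingHom.ker g := Ideal.map_le_iff_le_comap.mpr fun r hr => by
    rw [Ideal.mem_comap, RingHom.mem_ker, show g (φ r) = ψ (f r) from RingHom.congr_fun hcomm r,
      RingHom.mem_ker.mp hr, map_zero]
  have hinter : RingHom.ker g ⊓ mS ≤ IS ⊔ maximalIdeal S * RingHom.ker g := by
    intro z hz
    obtain ⟨hz1, hz2⟩ := Submodule.mem_inf.mp hz
    obtain ⟨n, x, hx⟩ := Submodule.fg_iff_exists_fin_generating_family.mp (IsNoetherian.noetherian (maximalIdeal R))
    have hxm : ∀ i, x i ∈ maximalIdeal R := fun i => hx ▸ Submodule.subset_span ⟨i, rfl⟩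
    have hspan : mS = Ideal.span (Set.range (φ ∘ x)) := by
      show (maximalIdeal R).map φ = _
      rw [← hx, Set.range_comp]
      exact Ideal.map_span φ _
    rw [hspan] at hz2
    obtain ⟨s, rfl⟩ := Ideal.mem_span_range_iff_exists_fun.mp hz2
    letI : Algebra A B := ψ.toAlgebra
    haveI : Module.Flat A B := hψ
    have hrel : ∑ i, f (x i) • g (s i) = 0 := by
      rw [RingHom.mem_ker, map_sum] at hz1
      refine Eq.trans (Finset.sum_congr rfl fun i _ => ?_) hz1
      rw [Function.comp_apply, Algebra.smul_def, map_mul, show g (φ (x i)) = ψ (f (x i)) from RingHom.congr_fun hcomm _, mul_comm]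
      rfl
    obtain ⟨k, a, y, hy, ha⟩ := Module.Flat.isTrivialRelation_of_sum_smul_eq_zero (R := A) (M := B) hrel
    choose r hr using fun i j => hf (a i j)
    choose t ht using fun j => hg (y j)
    let e : Fin n → S := fun i => s i - ∑ j, φ (r i j) * t j
    have he : ∀ i, e i ∈ RingHom.ker g := fun i => by
      rw [RingHom.mem_ker, map_sub, show g (s i) = _ from hy i, map_sum, sub_eq_zero]
      refine Finset.sum_congr rfl fun j _ => ?_
      rw [Algebra.smul_def, map_mul, ht, show g (φ (r i j)) = ψ (f (r i j)) from RingHom.congr_fun hcomm _, hr]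
      rfl
    have hz : ∑ i, s i * φ (x i) = ∑ j, φ (∑ i, x i * r i j) * t j + ∑ i, φ (x i) * e i := by
      have h : ∀ i, s i * φ (x i) = (∑ j, φ (x i * r i j) * t j) + φ (x i) * e i := fun i => by
        simp only [e, mul_sub, Finset.mul_sum, map_mul, mul_assoc]
        ring
      rw [Finset.sum_congr rfl fun i _ => h i, Finset.sum_add_distrib, Finset.sum_comm]
      simp only [map_sum, Finset.sum_mul]
    simp only [Function.comp_apply]
    rw [hz]
    refine Submodule.add_mem_sup (Ideal.sum_mem _ fun j _ => Ideal.mul_mem_right _ _ (Ideal.mem_map_of_mem φ ?_))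
      (Ideal.sum_mem _ fun i _ => Ideal.mul_mem_mul (map_nonunit φ _ (hxm i)) (he i))
    rw [RingHom.mem_ker, map_sum]
    refine Eq.trans (Finset.sum_congr rfl fun i _ => ?_) (ha j)
    rw [map_mul, hr]
  have hJ : RingHom.ker g = IS ⊔ Ideal.span (b : Set S) := by
    refine le_antisymm ?_ (sup_le hISJ (Ideal.span_le.mpr hbJ))
    refine Submodule.le_of_le_smul_of_le_jacobson_bot (I := maximalIdeal S) (IsNoetherian.noetherian _)
      (maximalIdeal_le_jacobson _) ?_
    rw [smul_eq_mul]
    intro z hz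
    have hzb : Ideal.Quotient.mk mS z ∈ (Ideal.span (b : Set S)).map (Ideal.Quotient.mk mS) := by
      rw [hbmap, hkbar]; exact Ideal.mem_map_of_mem _ hz
    obtain ⟨w, hw, hwz⟩ := (Ideal.mem_map_iff_of_surjective _ Ideal.Quotient.mk_surjective).mp hzb
    have h1 : z - w ∈ RingHom.ker g ⊓ mS :=
      ⟨sub_mem hz (Ideal.span_le.mpr hbJ hw), Ideal.Quotient.eq.mp hwz.symm⟩
    have h2 : z - w ∈ IS ⊔ Ideal.span (b : Set S) ⊔ maximalIdeal S * RingHom.ker g :=
      (sup_le_sup_right le_sup_left _ : IS ⊔ maximalIdeal S * RingHom.ker g ≤ IS ⊔ Ideal.span (b : Set S) ⊔ maximalIdeal S * RingHom.ker g) (hinter h1)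
    have h3 : w ∈ IS ⊔ Ideal.span (b : Set S) ⊔ maximalIdeal S * RingHom.ker g :=
      le_sup_left (a := IS ⊔ Ideal.span (b : Set S)) (le_sup_right (a := IS) hw)
    simpa using add_mem h2 h3
  -- count
  have hμ : (RingHom.ker g).spanFinrank ≤ (RingHom.ker f).spanFinrank + (RingHom.ker gbar).spanFinrank := by
    have hfin := (IsNoetherian.noetherian (RingHom.ker f)).finite_generators
    have : RingHom.ker g = Submodule.span S (φ '' Submodule.generators (RingHom.ker f) ∪ (b : Set S)) := by
      rw [hJ, Submodule.span_union]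
      congr 1
      show (RingHom.ker f).map φ = Ideal.span _
      conv_lhs => rw [← Submodule.span_generators (RingHom.ker f)]
      exact Ideal.map_span φ _
    rw [this]
    refine (Submodule.spanFinrank_span_le_ncard_of_finite ((hfin.image _).union b.finite_toSet)).trans ?_
    refine (Set.ncard_union_le _ _).trans (Nat.add_le_add ?_ ((Set.ncard_coe_finset b).le.trans hbc))
    exact (Set.ncard_image_le hfin).trans (IsNoetherian.noetherian (RingHom.ker f)).generators_ncard.le
  letI := φ.toAlgebra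
  letI := ψ.toAlgebra
  haveI : Module.Flat R S := hφ
  haveI : Module.Flat A B := hψ
  haveI : IsLocalHom (algebraMap R S) := ‹IsLocalHom φ›
  haveI : IsLocalHom (algebraMap A B) := ‹IsLocalHom ψ›
  haveI : IsNoetherianRing S := inferInstance
  have hdS := H05EGA4.ringKrullDim_eq_add_of_flat R S
  have hdB := H05EGA4.ringKrullDim_eq_add_of_flat A B
  obtain ⟨r₁, h₁⟩ := exists_nat_dim R
  obtain ⟨r₂, h₂⟩ := exists_nat_dim S
  obtain ⟨r₃, h₃⟩ := exists_nat_dim A
  obtain ⟨r₄, h₄⟩ := exists_nat_dim B
  obtain ⟨r₅, h₅⟩ := exists_nat_dim (S ⧸ mS)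
  haveI : IsNoetherianRing (B ⧸ mB) := inferInstance
  obtain ⟨r₆, h₆⟩ := exists_nat_dim (B ⧸ mB)
  change _ = _ + ringKrullDim (S ⧸ mS) at hdS
  change _ = _ + ringKrullDim (B ⧸ mB) at hdB
  rw [h₁, h₂, h₅] at hdS
  rw [h₃, h₄, h₆] at hdB
  unfold IsCIKer at hA' hF' ⊢
  rw [h₁, h₃] at hA'
  rw [h₅, h₆] at hF'
  rw [h₂, h₄]
  norm_cast at hdS hdB hA' hF' ⊢
  omega

end Groth.Agent.H13CI
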