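import Mathlib
import Groth.Agent.H13CI.Ascent
import Groth.Agent.H13CI.EFT
import Groth.Agent.H05EGA4.FlatPresentation
import Groth.Agent.H05EGA4.Regular2
import Groth.Agent.H02CA.GorFlatLocal

/-!
# Complete intersections along flat maps with regular fibres

For a flat local homomorphism `A → B` of Noetherian local rings with regular closed fibre, `B` is a
complete intersection as soon as `A` is: completions admit a flat presentation by power series rings
over coefficient rings.
-/

set_option autoImplicit false
set_option backward.isDefEq.respectTransparency false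
set_option maxHeartbeats 400000

universe u

open IsLocalRing Groth.Agent

namespace Groth.Agent.H13CI

/-- Ascent along flat local maps with regular closed fibre. -/
theorem isCI_of_flat_regular_fibre (A B : Type u) [CommRing A] [CommRing B] [IsLocalRing A] [IsLocalRing B]
    [IsNoetherianRing A] [IsNoetherianRing B] [Algebra A B] [IsLocalHom (algebraMap A B)] [Module.Flat A B]
    [IsRegularLocalRing (B ⧸ (maximalIdeal A).map (algebraMap A B))]
    (hA : Pi1.IsCompleteIntersection A) : Pi1.IsCompleteIntersection B := by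
  obtain ⟨ψ, hψ⟩ := exists_completion_map (algebraMap A B)
  haveI := H02CA.isLocalHom_completion (algebraMap A B) ψ hψ
  haveI := H05EGA4.isNoetherianRing_adicCompletion A (maximalIdeal A)
  haveI := H05EGA4.isNoetherianRing_adicCompletion B (maximalIdeal B)
  let Ah := AdicCompletion (maximalIdeal A) A
  let Bh := AdicCompletion (maximalIdeal B) B
  have hψflat : ψ.Flat := (H02CA.flat_completion_iff (algebraMap A B) ψ hψ).mpr
    (RingHom.flat_algebraMap_iff.mpr inferInstance)
  -- the closed fibre of the completions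
  have hmA : (maximalIdeal Ah).map ψ = ((maximalIdeal A).map (algebraMap A B)).map (algebraMap B Bh) := by
    rw [AdicCompletion.maximalIdeal_eq_map, Ideal.map_map, hψ, ← Ideal.map_map]
  let mB := (maximalIdeal A).map (algebraMap A B)
  have hmBle : mB.map (algebraMap B Bh) ≤ maximalIdeal Bh :=
    (Ideal.map_mono (map_maximalIdeal_le (algebraMap A B))).trans (map_maximalIdeal_le _)
  haveI : Nontrivial (Bh ⧸ mB.map (algebraMap B Bh)) :=
    Ideal.Quotient.nontrivial_iff.mpr (ne_top_of_le_ne_top (maximalIdeal.isMaximal Bh).ne_top hmBle)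
  haveI : IsLocalRing (Bh ⧸ mB.map (algebraMap B Bh)) := .of_surjective' _ Ideal.Quotient.mk_surjective
  haveI : Module.Flat (B ⧸ mB) (Bh ⧸ mB.map (algebraMap B Bh)) :=
    RingHom.flat_algebraMap_iff.mp (flat_quotient_map mB)
  haveI : IsRegularLocalRing (Bh ⧸ mB.map (algebraMap B Bh)) := by
    refine H05EGA4.isRegularLocalRing_of_flat_of_map_eq (B ⧸ mB) _ ?_
    rw [← map_maximalIdeal_of_surjective _ (Ideal.Quotient.mk_surjective (I := mB)),
      ← map_maximalIdeal_of_surjective _ (Ideal.Quotient.mk_surjective (I := mB.map (algebraMap B Bh))),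
      AdicCompletion.maximalIdeal_eq_map]
    refine (Ideal.map_map _ _).trans (Eq.trans ?_ (Ideal.map_map (algebraMap B Bh) _).symm)
    rfl
  haveI : IsAdicComplete (maximalIdeal Ah) Ah := inferInstance
  letI : Algebra Ah Bh := ψ.toAlgebra
  haveI : IsLocalHom (algebraMap Ah Bh) := ‹IsLocalHom ψ›
  obtain ⟨Λ, Λ', _, _, _, _, n, m, ρ, σ, τ, hΛΛ', hρ, hσ, hcomm, hloc, hflat, hfib⟩ :=
    H05EGA4.exists_flat_presentation Ah Bh
  have hΛ0 : IsField Λ ∨ CAlg.IsCohenRing Λ := hΛΛ'.elim (fun h => .inl h.2.1) (fun h => .inr h.2.1)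
  have hΛ'0 : IsField Λ' ∨ CAlg.IsCohenRing Λ' := hΛΛ'.elim (fun h => .inl h.2.2) (fun h => .inr h.2.2)
  obtain ⟨_, _, _, -⟩ := H05EGA4.coefficientRing_spec hΛ0
  obtain ⟨_, _, _, -⟩ := H05EGA4.coefficientRing_spec hΛ'0
  haveI := H05EGA4.isRegularRing_of_isField_or_isCohenRing hΛ0
  haveI := H05EGA4.isRegularRing_of_isField_or_isCohenRing hΛ'0
  haveI : IsRegularRing (MvPowerSeries (Fin n) Λ) := S5784.result Λ _
  haveI : IsRegularRing (MvPowerSeries (Fin m) Λ') := S5784.result Λ' _
  haveI : IsRegularLocalRing (MvPowerSeries (Fin n) Λ) := IsRegularLocalRing.of_isRegularRing_of_isLocalRing _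
  haveI : IsRegularLocalRing (MvPowerSeries (Fin m) Λ') := IsRegularLocalRing.of_isRegularRing_of_isLocalRing _
  haveI := hloc
  haveI : IsRegularLocalRing (Bh ⧸ (maximalIdeal Ah).map ψ) :=
    IsRegularLocalRing.of_ringEquiv (Ideal.quotEquivOfEq hmA.symm)
  rw [isCI_completion_iff]
  exact isCI_of_flat_of_fibre τ hflat hfib ρ hρ σ hσ ψ hψflat hcomm
    ((isCI_completion_iff A).mp hA) (isCI_of_regular _)

/-- Complete intersection local rings pass through a flat map with regular fibres. -/
theorem isCI_localization_of_regular_fibres {A B : Type u} [CommRing A] [CommRing B] [Algebra A B]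
    [IsNoetherianRing A] [IsNoetherianRing B] [Module.Flat A B]
    (hA : ∀ (p : Ideal A) [p.IsPrime], Pi1.IsCompleteIntersection (Localization.AtPrime p))
    (hF : ∀ (p : Ideal A) [p.IsPrime], IsRegularRing (p.Fiber B)) (q : Ideal B) [q.IsPrime] :
    Pi1.IsCompleteIntersection (Localization.AtPrime q) := by
  let p := q.comap (algebraMap A B)
  obtain ⟨Q, hQ⟩ : ∃ Q : PrimeSpectrum (p.Fiber B), Q.asIdeal.comap Algebra.TensorProduct.includeRight = q :=
    ⟨PrimeSpectrum.preimageEquivFiber A B ⟨p, inferInstance⟩ ⟨⟨q, inferInstance⟩, rfl⟩,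
      congr($((PrimeSpectrum.preimageEquivFiber A B ⟨p, inferInstance⟩).left_inv ⟨⟨q, inferInstance⟩, rfl⟩).1.asIdeal)⟩
  have key : ∀ (q₁ q₂ : Ideal B) [q₁.IsPrime] [q₂.IsPrime], q₁ = q₂ →
      Pi1.IsCompleteIntersection (Localization.AtPrime q₁) →
      Pi1.IsCompleteIntersection (Localization.AtPrime q₂) := by
    intro q₁ q₂ _ _ he h
    subst he
    exact h
  refine key _ _ hQ ?_
  let q' := Q.asIdeal.comap (Algebra.TensorProduct.includeRight : B →ₐ[A] p.Fiber B)
  haveI : q'.LiesOver p := ⟨show p = q'.comap (algebraMap A B) by rw [show q' = q from hQ]⟩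
  letI := Localization.AtPrime.algebraOfLiesOver p q'
  haveI : IsLocalHom (algebraMap (Localization.AtPrime p) (Localization.AtPrime q')) := by
    rw [Localization.AtPrime.IsLiesOverAlgebra.algebraMap_eq]
    infer_instance
  haveI : IsNoetherianRing (Localization.AtPrime p) :=
    IsLocalization.isNoetherianRing p.primeCompl _ inferInstance
  haveI : IsNoetherianRing (Localization.AtPrime q') :=
    IsLocalization.isNoetherianRing q'.primeCompl _ inferInstance
  have heq : (maximalIdeal (Localization.AtPrime p)).map (algebraMap (Localization.AtPrime p) (Localization.AtPrime q')) =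
      p.map (algebraMap A (Localization.AtPrime q')) := by
    rw [← Localization.AtPrime.map_eq_maximalIdeal, Ideal.map_map, ← IsScalarTower.algebraMap_eq]
  haveI := hF p
  haveI : IsRegularLocalRing (Localization.AtPrime Q.asIdeal) :=
    IsRegularRing.isRegularLocalRing_localization Q.asIdeal
  haveI : IsRegularLocalRing (Localization.AtPrime q' ⧸
      (maximalIdeal (Localization.AtPrime p)).map (algebraMap (Localization.AtPrime p) (Localization.AtPrime q'))) :=
    IsRegularLocalRing.of_ringEquiv (R := Localization.AtPrime Q.asIdeal) ((Ideal.quotEquivOfEq heq).trans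
      (Ideal.Fiber.localizationAlgEquivQuotient p Q.asIdeal).toRingEquiv.symm).symm
  exact isCI_of_flat_regular_fibre (Localization.AtPrime p) (Localization.AtPrime q') (hA p)

end Groth.Agent.H13CI
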