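import Groth.Agent.H9CI.RegLocal
import Groth.Agent.H05EGA4.CohenMisc
import Groth.Agent.H05EGA4.Completion
import Groth.Agent.H02CA.CompletionFlat
import Groth.Prelude.Def_Pi1

/-!
# Complete intersections: independence of the regular presentation

For a Noetherian local ring `A` and a surjection `R → A` from a regular local ring, `dim R − μ(ker)` is
independent of the presentation; `A` is a complete intersection (`Pi1.IsCompleteIntersection`) iff it
equals `dim A`.
-/

set_option autoImplicit false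
set_option linter.style.haveILetI false

universe u

open IsLocalRing TensorProduct

namespace Groth.Agent.H13CI

open H9CI (IsCIKer exists_nat_dim)

/-! ### Minimal numbers of generators along flat local maps -/

/-- Flat local homomorphisms preserve the minimal number of generators of an ideal. -/
theorem spanFinrank_map_of_flat {R S : Type u} [CommRing R] [CommRing S] [IsLocalRing R] [IsLocalRing S]
    (φ : R →+* S) (hflat : φ.Flat) [IsLocalHom φ] (I : Ideal R) (hI : I.FG) :
    (I.map φ).spanFinrank = I.spanFinrank := by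
  letI := φ.toAlgebra
  haveI : Module.Flat R S := hflat
  haveI : IsLocalHom (algebraMap R S) := ‹IsLocalHom φ›
  let ψ : S ⊗[R] I →ₗ[S] S :=
    (AlgebraTensorModule.rid R S S).toLinearMap ∘ₗ (Submodule.subtype I).baseChange S
  have hψ : Function.Injective ψ :=
    (AlgebraTensorModule.rid R S S).injective.comp
      (Module.Flat.lTensor_preserves_injective_linearMap (Submodule.subtype I) I.injective_subtype)
  have hrange : LinearMap.range ψ = I.map φ := by
    refine le_antisymm ?_ (Ideal.map_le_iff_le_comap.mpr fun a ha => ⟨1 ⊗ₜ ⟨a, ha⟩, ?_⟩)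
    · rintro _ ⟨t, rfl⟩
      induction t using TensorProduct.induction_on with
      | zero => simp
      | add u v hu hv => rw [map_add]; exact add_mem hu hv
      | tmul s a =>
        show (a : R) • s ∈ I.map φ
        rw [Algebra.smul_def]
        exact Ideal.mul_mem_right _ _ (Ideal.mem_map_of_mem φ a.2)
    · show a • (1 : S) = φ a
      rw [Algebra.smul_def, mul_one]
      rfl
  let e : S ⊗[R] I ≃ₗ[S] ↥(I.map φ) := (LinearEquiv.ofInjective ψ hψ).trans (LinearEquiv.ofEq _ _ hrange)
  have h1 := TensorProduct.spanFinrank_top_eq_of_residueField (N := I) hI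
  have h2 := TensorProduct.spanFinrank_top_eq_of_residueField (N := I.map φ) (Ideal.FG.map hI φ)
  rw [← Module.finrank_eq_spanFinrank_of_free] at h1 h2
  let e' : ResidueField S ⊗[S] ↥(I.map φ) ≃ₗ[ResidueField S]
      ResidueField S ⊗[ResidueField R] (ResidueField R ⊗[R] I) :=
    ((LinearEquiv.baseChange S (ResidueField S) _ _ e.symm).trans
      (AlgebraTensorModule.cancelBaseChange R S (ResidueField S) (ResidueField S) I)).trans
      (AlgebraTensorModule.cancelBaseChange R (ResidueField R) (ResidueField S) (ResidueField S) I).symm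
  rw [← h2, e'.finrank_eq, Module.finrank_baseChange, h1]

/-! ### Dimension minus number of equations -/

/-- Compose a presentation with a surjection of regular local rings. -/
theorem diff_comp {R' R A : Type u} [CommRing R'] [IsRegularLocalRing R'] [CommRing R] [IsRegularLocalRing R]
    [CommRing A] [Nontrivial A] (π : R' →+* R) (hπ : Function.Surjective π) (f : R →+* A)
    {d' d : ℕ} (hd' : ringKrullDim R' = d') (hd : ringKrullDim R = d) :
    (d' : ℤ) - (RingHom.ker (f.comp π)).spanFinrank = (d : ℤ) - (RingHom.ker f).spanFinrank := by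
  obtain ⟨h1, h2⟩ := H9CI.spanFinrank_map_add _ π hπ le_rfl
  have hJ := h2 (RingHom.ker (f.comp π)) (fun z hz => by
    rw [RingHom.mem_ker, RingHom.comp_apply, RingHom.mem_ker.mp hz, map_zero]) (RingHom.ker_ne_top _)
  rw [← RingHom.comap_ker f π, Ideal.map_comap_of_surjective π hπ] at hJ
  rw [← RingHom.comap_ker f π, hJ]
  rw [hd, hd'] at h1
  norm_cast at h1
  omega

/-- The completed presentation. -/
theorem exists_completion_presentation {R A : Type u} [CommRing R] [IsRegularLocalRing R] [CommRing A] [IsLocalRing A]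
    (f : R →+* A) (hf : Function.Surjective f) :
    ∃ g : AdicCompletion (maximalIdeal R) R →+* AdicCompletion (maximalIdeal A) A, Function.Surjective g ∧
      (RingHom.ker g).spanFinrank = (RingHom.ker f).spanFinrank := by
  obtain ⟨e⟩ := H05EGA4.exists_completion_quotient_equiv (maximalIdeal R) A f hf (maximalIdeal A)
    (IsLocalRing.map_maximalIdeal_of_surjective f hf)
  refine ⟨e.toRingHom.comp (Ideal.Quotient.mk _), e.surjective.comp Ideal.Quotient.mk_surjective, ?_⟩
  rw [show RingHom.ker (e.toRingHom.comp (Ideal.Quotient.mk _)) =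
      (RingHom.ker f).map (algebraMap R (AdicCompletion (maximalIdeal R) R)) by
    rw [RingHom.ker_comp_of_injective _ e.injective, Ideal.mk_ker]]
  exact spanFinrank_map_of_flat _ (RingHom.flat_algebraMap_iff.mpr inferInstance) _ (IsNoetherian.noetherian _)

/-! ### A common cover of two complete regular presentations -/

/-- A ring over which presentations of `A` can be built. -/
def IsCoefficient {Λ A : Type u} [CommRing Λ] [CommRing A] [IsLocalRing A] (a : Λ →+* A) : Prop :=
  IsRegularRing Λ ∧ IsLocalRing Λ ∧ (∀ x, ∃ l, a l - x ∈ maximalIdeal A) ∧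
    ∀ (C : Type u) [CommRing C] [IsLocalRing C] [IsNoetherianRing C] [IsAdicComplete (maximalIdeal C) C]
      (f : C →+* A), Function.Surjective f → ∃ v : Λ →+* C, f.comp v = a

/-- Lifts modulo `ker f ⊔ 𝔪 ^ n` for all `n` are lifts. -/
theorem comp_eq_of_forall_mem {W C A : Type u} [CommRing W] [CommRing C] [IsLocalRing C] [IsNoetherianRing C]
    [CommRing A] (f : C →+* A) (hf : Function.Surjective f) (a : W →+* A) (v : W →+* C)
    (hv : ∀ x c, (RingHom.quotientKerEquivOfSurjective hf).symm (a x) = Ideal.Quotient.mk _ c →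
      ∀ n, v x - c ∈ RingHom.ker f ⊔ maximalIdeal C ^ n) : f.comp v = a := by
  ext x
  obtain ⟨c, hc⟩ := hf (a x)
  have h := H05EGA4.mem_of_forall_mem_sup_pow (hv x c (by
    rw [RingEquiv.symm_apply_eq]; exact hc.symm))
  rw [RingHom.mem_ker, map_sub, sub_eq_zero, hc] at h
  exact h

theorem exists_coefficient (A : Type u) [CommRing A] [IsLocalRing A] [IsNoetherianRing A]
    [IsAdicComplete (maximalIdeal A) A] : ∃ (Λ : Type u) (_ : CommRing Λ) (a : Λ →+* A), IsCoefficient a := by
  obtain h0 | ⟨p, hp, hpk⟩ := CharP.exists' (ResidueField A)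
  · obtain ⟨s, hs⟩ := H05EGA4.exists_coefficientField_of_charZero A
    refine ⟨ResidueField A, inferInstance, s, inferInstance, inferInstance,
      fun x => ⟨residue A x, Ideal.Quotient.eq.mp (DFunLike.congr_fun hs (residue A x))⟩, ?_⟩
    intro C _ _ _ _ f hf
    haveI : IsLocalHom f := hf.isLocalHom f
    haveI : CharZero (ResidueField C) :=
      charZero_of_injective_ringHom (RingEquiv.injective (RingEquiv.ofBijective (ResidueField.map f)
        ⟨RingHom.injective _, fun x => by
          obtain ⟨x, rfl⟩ := residue_surjective x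
          obtain ⟨c, rfl⟩ := hf x
          exact ⟨residue C c, rfl⟩⟩).symm) (f := (RingEquiv.ofBijective (ResidueField.map f)
        ⟨RingHom.injective _, fun x => by
          obtain ⟨x, rfl⟩ := residue_surjective x
          obtain ⟨c, rfl⟩ := hf x
          exact ⟨residue C c, rfl⟩⟩).symm.toRingHom)
    obtain ⟨t, -⟩ := H05EGA4.exists_coefficientField_of_charZero C
    let gC : ULift.{u} ℚ →+* C :=
      (t.comp (algebraMap ℚ (ResidueField C))).comp ULift.ringEquiv.toRingHom
    letI := gC.toAlgebra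
    letI : Algebra (ULift.{u} ℚ) (ResidueField A) :=
      ((algebraMap ℚ (ResidueField A)).comp ULift.ringEquiv.toRingHom).toAlgebra
    haveI : PerfectField (ULift.{u} ℚ) := by
      have : CharZero (ULift.{u} ℚ) := ⟨fun a b h => Nat.cast_injective (R := ℚ) (congrArg ULift.down h)⟩
      infer_instance
    haveI := H05EGA4.formallySmooth_of_perfectField (ULift.{u} ℚ) (ResidueField A)
    let u₀ : ResidueField A →ₐ[ULift.{u} ℚ] C ⧸ RingHom.ker f :=
      { (RingHom.quotientKerEquivOfSurjective hf).symm.toRingHom.comp s with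
        commutes' := fun q => RingHom.congr_fun (RingHom.ext_rat
          (((RingHom.quotientKerEquivOfSurjective hf).symm.toRingHom.comp s).comp (algebraMap ℚ (ResidueField A)))
          ((Ideal.Quotient.mk (RingHom.ker f)).comp (t.comp (algebraMap ℚ (ResidueField C))))) q.down }
    obtain ⟨v, hv⟩ := H05EGA4.exists_lift_formallySmooth_adicComplete (RingHom.ker f)
      (le_maximalIdeal (RingHom.ker_ne_top f)) u₀
    exact ⟨v.toRingHom, comp_eq_of_forall_mem f hf s v.toRingHom hv⟩
  · obtain ⟨W, _, _, hW, hmax, ⟨e⟩⟩ := H05EGA4.exists_isCohenRing p (ResidueField A)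
    have hWp : Ideal.span {(p : W)} ≠ ⊤ := hmax ▸ (maximalIdeal.isMaximal W).ne_top
    have hpA : (p : A) ∈ maximalIdeal A := by
      rw [← residue_eq_zero_iff, map_natCast]; exact CharP.cast_eq_zero _ p
    obtain ⟨a, ha⟩ := H05EGA4.exists_lift_cohenRing_adicComplete hW p hWp hpA
      (maximalIdeal A) le_rfl (e.toRingHom.comp (residue W))
    refine ⟨W, inferInstance, a, H05EGA4.isRegularRing_of_isField_or_isCohenRing (Or.inr hW), inferInstance,
      fun x => ?_, ?_⟩
    · obtain ⟨l, hl⟩ := residue_surjective (e.symm (residue A x))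
      refine ⟨l, ?_⟩
      simpa using ha l x (by show e (residue W l) = residue A x; rw [hl, RingEquiv.apply_symm_apply]) 1
    · intro C _ _ _ _ f hf
      have hpC : (p : C) ∈ maximalIdeal C := fun hu => hpA (by simpa using hu.map f)
      obtain ⟨v, hv⟩ := H05EGA4.exists_lift_cohenRing_adicComplete hW p hWp hpC (RingHom.ker f)
        (le_maximalIdeal (RingHom.ker_ne_top f))
        ((RingHom.quotientKerEquivOfSurjective hf).symm.toRingHom.comp a)
      exact ⟨v, comp_eq_of_forall_mem f hf a v hv⟩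

/-- Power series over a coefficient ring map onto a complete ring if the generators are hit. -/
theorem exists_cover {Λ A C : Type u} [CommRing Λ] [CommRing A] [IsLocalRing A] [CommRing C] [IsLocalRing C]
    [IsAdicComplete (maximalIdeal C) C] [IsNoetherianRing C] {a : Λ →+* A} (ha : IsCoefficient a)
    (f : C →+* A) (hf : Function.Surjective f) {N : ℕ} (b : Fin N → C) (hb : ∀ i, b i ∈ maximalIdeal C)
    (hgen : maximalIdeal C ≤ Ideal.span (Set.range b)) :
    ∃ π : MvPowerSeries (Fin N) Λ →+* C, Function.Surjective π ∧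
      (∀ l, f (π (algebraMap Λ _ l)) = a l) ∧ ∀ i, π (MvPowerSeries.X i) = b i := by
  obtain ⟨hreg, _, hres, hlift⟩ := ha
  haveI := hreg
  haveI : IsLocalHom f := hf.isLocalHom f
  obtain ⟨v, hv⟩ := hlift C f hf
  letI := v.toAlgebra
  obtain ⟨ψ, hψ⟩ := H02CA.PS.exists_algHom (R := Λ) (σ := Fin N) (maximalIdeal C) b hb
  refine ⟨ψ.toRingHom, ?_, fun l => ?_, hψ⟩
  · have : IsAdicComplete (Ideal.span (Set.range MvPowerSeries.X) : Ideal (MvPowerSeries (Fin N) Λ)) (MvPowerSeries (Fin N) Λ) := inferInstance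
    have hres' : ∀ r : C, ∃ l, v l - r ∈ maximalIdeal C := fun r => by
      obtain ⟨l, hl⟩ := hres (f r)
      refine ⟨l, fun hu => hl ?_⟩
      have := hu.map f
      rwa [map_sub, show f (v l) = a l from RingHom.congr_fun hv l] at this
    refine H02CA.PS.surjective_of_approx ψ.toRingHom (Ideal.span (Set.range MvPowerSeries.X) : Ideal (MvPowerSeries (Fin N) Λ)) (maximalIdeal C) ?_ ?_ ?_
    · intro x hx
      refine (Ideal.map_le_iff_le_comap (f := ψ.toRingHom) (K := maximalIdeal C).mp ?_) hx
      rw [Ideal.map_span, Ideal.span_le]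
      rintro _ ⟨_, ⟨i, rfl⟩, rfl⟩
      show ψ (MvPowerSeries.X i) ∈ _
      rw [hψ]; exact hb i
    · intro s
      obtain ⟨l, hl⟩ := hres' s
      exact ⟨algebraMap Λ _ l, by show ψ (algebraMap Λ _ l) - s ∈ _; rwa [AlgHom.commutes]⟩
    · intro s hs
      obtain ⟨r, hr⟩ := Ideal.mem_span_range_iff_exists_fun.mp (hgen hs)
      choose l hl using fun i => hres' (r i)
      refine ⟨∑ i, algebraMap Λ _ (l i) * MvPowerSeries.X i, Ideal.sum_mem _ fun i _ => Ideal.mul_mem_left _ _ (Ideal.subset_span ⟨i, rfl⟩), ?_⟩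
      show ψ _ - s ∈ _
      rw [map_sum, ← hr, ← Finset.sum_sub_distrib, pow_two]
      refine Ideal.sum_mem _ fun i _ => ?_
      rw [map_mul, AlgHom.commutes, hψ, ← sub_mul]
      exact Ideal.mul_mem_mul (hl i) (hb i)
  · show f (ψ (algebraMap Λ _ l)) = a l
    rw [AlgHom.commutes]
    exact RingHom.congr_fun hv l

/-- Independence for complete presentations. -/
theorem diff_eq_of_complete {A R₁ R₂ : Type u} [CommRing A] [IsLocalRing A] [IsNoetherianRing A]
    [IsAdicComplete (maximalIdeal A) A] [CommRing R₁] [IsRegularLocalRing R₁] [IsAdicComplete (maximalIdeal R₁) R₁]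
    [CommRing R₂] [IsRegularLocalRing R₂] [IsAdicComplete (maximalIdeal R₂) R₂]
    (f₁ : R₁ →+* A) (hf₁ : Function.Surjective f₁) (f₂ : R₂ →+* A) (hf₂ : Function.Surjective f₂)
    {d₁ d₂ : ℕ} (hd₁ : ringKrullDim R₁ = d₁) (hd₂ : ringKrullDim R₂ = d₂) :
    (d₁ : ℤ) - (RingHom.ker f₁).spanFinrank = (d₂ : ℤ) - (RingHom.ker f₂).spanFinrank := by
  obtain ⟨Λ, _, a, ha⟩ := exists_coefficient A
  obtain ⟨n₁, g₁, hg₁⟩ := Submodule.fg_iff_exists_fin_generating_family.mp (IsNoetherian.noetherian (maximalIdeal R₁))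
  obtain ⟨n₂, g₂, hg₂⟩ := Submodule.fg_iff_exists_fin_generating_family.mp (IsNoetherian.noetherian (maximalIdeal R₂))
  haveI : IsLocalHom f₁ := hf₁.isLocalHom f₁
  haveI : IsLocalHom f₂ := hf₂.isLocalHom f₂
  have hg₁m : ∀ i, g₁ i ∈ maximalIdeal R₁ := fun i => hg₁ ▸ Submodule.subset_span ⟨i, rfl⟩
  have hg₂m : ∀ i, g₂ i ∈ maximalIdeal R₂ := fun i => hg₂ ▸ Submodule.subset_span ⟨i, rfl⟩
  choose x₁ hx₁ using fun j => hf₁ (f₂ (g₂ j))
  choose x₂ hx₂ using fun i => hf₂ (f₁ (g₁ i))
  have hx₁m : ∀ j, x₁ j ∈ maximalIdeal R₁ := fun j hu => by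
    have := hu.map f₁
    rw [hx₁] at this
    exact hg₂m j (isUnit_of_map_unit f₂ _ this)
  have hx₂m : ∀ i, x₂ i ∈ maximalIdeal R₂ := fun i hu => by
    have := hu.map f₂
    rw [hx₂] at this
    exact hg₁m i (isUnit_of_map_unit f₁ _ this)
  let b₁ : Fin (n₁ + n₂) → R₁ := Fin.append g₁ x₁
  let b₂ : Fin (n₁ + n₂) → R₂ := Fin.append x₂ g₂
  obtain ⟨π₁, hπ₁, hl₁, hX₁⟩ := exists_cover ha f₁ hf₁ b₁
    (fun i => Fin.addCases (fun j => by simp [b₁, hg₁m]) (fun j => by simp [b₁, hx₁m]) i)
    (hg₁ ▸ Submodule.span_mono (by rintro _ ⟨i, rfl⟩; exact ⟨Fin.castAdd n₂ i, by simp [b₁]⟩))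
  obtain ⟨π₂, hπ₂, hl₂, hX₂⟩ := exists_cover ha f₂ hf₂ b₂
    (fun i => Fin.addCases (fun j => by simp [b₂, hx₂m]) (fun j => by simp [b₂, hg₂m]) i)
    (hg₂ ▸ Submodule.span_mono (by rintro _ ⟨i, rfl⟩; exact ⟨Fin.natAdd n₁ i, by simp [b₂]⟩))
  have hcomm : f₁.comp π₁ = f₂.comp π₂ := by
    letI := a.toAlgebra
    let φ₁ : MvPowerSeries (Fin (n₁ + n₂)) Λ →ₐ[Λ] A := { f₁.comp π₁ with commutes' := hl₁ }
    let φ₂ : MvPowerSeries (Fin (n₁ + n₂)) Λ →ₐ[Λ] A := { f₂.comp π₂ with commutes' := hl₂ }
    have hbb : ∀ i, f₁ (b₁ i) = f₂ (b₂ i) := fun i => by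
      refine Fin.addCases (fun j => ?_) (fun j => ?_) i
      · simp [b₁, b₂, hx₂]
      · simp [b₁, b₂, hx₁]
    have : φ₁ = φ₂ := H02CA.PS.algHom_ext (maximalIdeal A)
      (fun i => by
        show f₁ (π₁ (MvPowerSeries.X i)) ∈ maximalIdeal A
        rw [hX₁]
        exact Fin.addCases (fun j => map_nonunit f₁ _ (by simp [b₁, hg₁m]))
          (fun j => map_nonunit f₁ _ (by simp [b₁, hx₁m])) i)
      (fun i => by
        show f₁ (π₁ (MvPowerSeries.X i)) = f₂ (π₂ (MvPowerSeries.X i))
        rw [hX₁, hX₂, hbb])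
    exact RingHom.ext fun z => DFunLike.congr_fun this z
  haveI := ha.1
  haveI := ha.2.1
  haveI := Groth.Agent.S5784.result Λ (n₁ + n₂)
  haveI : IsRegularLocalRing (MvPowerSeries (Fin (n₁ + n₂)) Λ) := IsRegularLocalRing.of_isRegularRing_of_isLocalRing _
  obtain ⟨d, hd⟩ := exists_nat_dim (MvPowerSeries (Fin (n₁ + n₂)) Λ)
  rw [← diff_comp π₁ hπ₁ f₁ hd hd₁, ← diff_comp π₂ hπ₂ f₂ hd hd₂, hcomm]

/-- Independence of the presentation. -/
theorem diff_eq {A R₁ R₂ : Type u} [CommRing A] [IsLocalRing A] [IsNoetherianRing A]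
    [CommRing R₁] [IsRegularLocalRing R₁] [CommRing R₂] [IsRegularLocalRing R₂]
    (f₁ : R₁ →+* A) (hf₁ : Function.Surjective f₁) (f₂ : R₂ →+* A) (hf₂ : Function.Surjective f₂)
    {d₁ d₂ : ℕ} (hd₁ : ringKrullDim R₁ = d₁) (hd₂ : ringKrullDim R₂ = d₂) :
    (d₁ : ℤ) - (RingHom.ker f₁).spanFinrank = (d₂ : ℤ) - (RingHom.ker f₂).spanFinrank := by
  obtain ⟨g₁, hg₁, hμ₁⟩ := exists_completion_presentation f₁ hf₁
  obtain ⟨g₂, hg₂, hμ₂⟩ := exists_completion_presentation f₂ hf₂
  haveI := H02CA.isRegularLocalRing_adicCompletion R₁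
  haveI := H02CA.isRegularLocalRing_adicCompletion R₂
  haveI := H05EGA4.isNoetherianRing_adicCompletion A (maximalIdeal A)
  rw [← hμ₁, ← hμ₂]
  exact diff_eq_of_complete g₁ hg₁ g₂ hg₂
    (by rw [H05EGA4.ringKrullDim_adicCompletion, hd₁]) (by rw [H05EGA4.ringKrullDim_adicCompletion, hd₂])

/-! ### The criterion -/

/-- The criterion on a presentation of the completion. -/
theorem isCI_iff_of_completion {A R : Type u} [CommRing A] [IsLocalRing A] [IsNoetherianRing A] [CommRing R]
    [IsRegularLocalRing R] (g : R →+* AdicCompletion (maximalIdeal A) A) (hg : Function.Surjective g) :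
    Pi1.IsCompleteIntersection A ↔ IsCIKer g := by
  haveI := H05EGA4.isNoetherianRing_adicCompletion A (maximalIdeal A)
  constructor
  · rintro ⟨B, _, _, rs, hrs, hreg, ⟨e⟩⟩
    let f : B →+* AdicCompletion (maximalIdeal A) A := e.symm.toRingHom.comp (Ideal.Quotient.mk _)
    have hfs : Function.Surjective f := e.symm.surjective.comp Ideal.Quotient.mk_surjective
    have hker : RingHom.ker f = Ideal.ofList rs := by
      rw [RingHom.ker_comp_of_injective _ e.symm.injective, Ideal.mk_ker]
    have hci := H9CI.isCIKer_of_isRegular f hfs rs hreg hker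
    obtain ⟨a, ha⟩ := exists_nat_dim B
    obtain ⟨b, hb⟩ := exists_nat_dim R
    obtain ⟨c, hc⟩ := exists_nat_dim (AdicCompletion (maximalIdeal A) A)
    have := diff_eq g hg f hfs hb ha
    unfold IsCIKer at hci ⊢
    rw [hc] at hci ⊢
    rw [ha] at hci
    rw [hb]
    norm_cast at hci ⊢
    omega
  · intro h
    obtain ⟨rs, hrs, hreg, hker, -⟩ := H9CI.exists_isRegular_of_isCIKer g hg h
    exact ⟨R, inferInstance, inferInstance, rs, hrs, hreg, ⟨(RingHom.quotientKerEquivOfSurjective hg).symm.trans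
      (Ideal.quotEquivOfEq (hker.trans rfl))⟩⟩

/-- The criterion on a presentation of the ring. -/
theorem isCI_iff {A R : Type u} [CommRing A] [IsLocalRing A] [CommRing R]
    [IsRegularLocalRing R] (f : R →+* A) (hf : Function.Surjective f) :
    Pi1.IsCompleteIntersection A ↔ IsCIKer f := by
  haveI : IsNoetherianRing A := isNoetherianRing_of_surjective R A f hf
  obtain ⟨g, hg, hμ⟩ := exists_completion_presentation f hf
  haveI := H02CA.isRegularLocalRing_adicCompletion R
  rw [isCI_iff_of_completion g hg]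
  unfold IsCIKer
  rw [hμ, H05EGA4.ringKrullDim_adicCompletion, H05EGA4.ringKrullDim_adicCompletion]

/-- Presentations satisfy `dim R ≤ dim A + μ`. -/
theorem dim_le_add {A R : Type u} [CommRing A] [IsLocalRing A] [CommRing R] [IsRegularLocalRing R]
    (f : R →+* A) (hf : Function.Surjective f) :
    ringKrullDim R ≤ ringKrullDim A + ((RingHom.ker f).spanFinrank : WithBot ℕ∞) := by
  rw [← ringKrullDim_eq_of_ringEquiv (RingHom.quotientKerEquivOfSurjective hf)]
  exact ringKrullDim_le_ringKrullDim_quotient_add_spanFinrank _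
    (by rw [IsLocalRing.ringJacobson_eq_maximalIdeal]; exact le_maximalIdeal (RingHom.ker_ne_top f))

/-- Regular local rings are complete intersections. -/
theorem isCI_of_regular (R : Type u) [CommRing R] [IsRegularLocalRing R] : Pi1.IsCompleteIntersection R := by
  rw [isCI_iff (RingHom.id R) Function.surjective_id]
  unfold IsCIKer
  rw [show RingHom.ker (RingHom.id R) = ⊥ from (RingHom.injective_iff_ker_eq_bot _).mp Function.injective_id,
    Submodule.spanFinrank_bot, Nat.cast_zero, add_zero]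

/-- Complete intersections are stable under isomorphisms. -/
theorem isCI_of_ringEquiv {A A' : Type u} [CommRing A] [IsLocalRing A] [CommRing A'] [IsLocalRing A'] [IsNoetherianRing A]
    (e : A ≃+* A') (h : Pi1.IsCompleteIntersection A) : Pi1.IsCompleteIntersection A' := by
  obtain ⟨B, i1, i2, rs, hrs, hreg, ⟨e'⟩⟩ := h
  obtain ⟨e''⟩ := H05EGA4.exists_completion_quotient_equiv (maximalIdeal A) A' e.toRingHom e.surjective (maximalIdeal A')
    (IsLocalRing.map_maximalIdeal_of_surjective e.toRingHom e.surjective)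
  refine ⟨B, i1, i2, rs, hrs, hreg, ⟨(e''.symm.trans ((Ideal.quotEquivOfEq ?_).trans ((RingEquiv.quotientBot _)))).trans e'⟩⟩
  rw [(RingHom.injective_iff_ker_eq_bot e.toRingHom).mp e.injective, Ideal.map_bot]

theorem isCI_congr {A A' : Type u} [CommRing A] [IsLocalRing A] [CommRing A'] [IsLocalRing A'] [IsNoetherianRing A]
    (e : A ≃+* A') : Pi1.IsCompleteIntersection A ↔ Pi1.IsCompleteIntersection A' :=
  ⟨isCI_of_ringEquiv e, fun h => by
    haveI : IsNoetherianRing A' := isNoetherianRing_of_ringEquiv A e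
    exact isCI_of_ringEquiv e.symm h⟩

end Groth.Agent.H13CI
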