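import Groth.Agent.H13CI.Field
import Groth.Agent.H25Gor.BaseChange
import Groth.Prelude.Def_CInt

/-!
# Complete intersection fibres of scheme morphisms
-/

set_option autoImplicit false
set_option linter.style.haveILetI false

universe u

open CategoryTheory CategoryTheory.Limits AlgebraicGeometry IsLocalRing
open scoped TensorProduct

namespace Groth.Agent.H13CI

theorem isCI_spec_iff (R : CommRingCat.{u}) [IsNoetherianRing R] (x : Spec R) :
    Pi1.IsCompleteIntersection ((Spec R).presheaf.stalk x) ↔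
      Pi1.IsCompleteIntersection (Localization.AtPrime x.asIdeal) := by
  letI : Algebra R ((Spec R).presheaf.stalk x) := StructureSheaf.stalkAlgebra R x
  haveI : IsLocalization.AtPrime ((Spec R).presheaf.stalk x) x.asIdeal :=
    StructureSheaf.IsLocalization.to_stalk R x
  exact (isCI_congr
    (IsLocalization.algEquiv x.asIdeal.primeCompl (Localization.AtPrime x.asIdeal)
      ((Spec R).presheaf.stalk x)).toRingEquiv).symm

theorem isCI_stalk_iff_of_isOpenImmersion {X Y : Scheme.{u}} [IsLocallyNoetherian Y] (j : X ⟶ Y) [IsOpenImmersion j]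
    (x : X) :
    Pi1.IsCompleteIntersection (X.presheaf.stalk x) ↔ Pi1.IsCompleteIntersection (Y.presheaf.stalk (j x)) :=
  (isCI_congr (asIso (j.stalkMap x)).commRingCatIsoToRingEquiv).symm

variable {K K' : Type u} [Field K] [Field K'] [Algebra K K']

/-- The affine case. -/
theorem isCI_iff_baseChange_spec {A₀ : Type u} [CommRing A₀] [Algebra K A₀] [Algebra.FiniteType K A₀]
    (w : ↥(pullback (Spec.map (CommRingCat.ofHom (algebraMap K K'))) (Spec.map (CommRingCat.ofHom (algebraMap K A₀))))) :
    Pi1.IsCompleteIntersection ((pullback (Spec.map (CommRingCat.ofHom (algebraMap K K')))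
        (Spec.map (CommRingCat.ofHom (algebraMap K A₀)))).presheaf.stalk w) ↔
      Pi1.IsCompleteIntersection ((Spec (CommRingCat.of A₀)).presheaf.stalk
        ((pullback.snd (Spec.map (CommRingCat.ofHom (algebraMap K K')))
          (Spec.map (CommRingCat.ofHom (algebraMap K A₀)))) w)) := by
  haveI : IsNoetherianRing A₀ := Algebra.FiniteType.isNoetherianRing K A₀
  haveI : IsNoetherianRing (K' ⊗[K] A₀) := Algebra.FiniteType.isNoetherianRing K' _
  haveI : IsNoetherianRing (CommRingCat.of A₀) := ‹IsNoetherianRing A₀›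
  haveI : IsNoetherianRing (CommRingCat.of (K' ⊗[K] A₀)) := ‹IsNoetherianRing (K' ⊗[K] A₀)›
  haveI : IsLocallyNoetherian (Spec (CommRingCat.of (K' ⊗[K] A₀))) := isLocallyNoetherian_Spec.mpr inferInstance
  let e := pullbackSpecIso K K' A₀
  rw [isCI_stalk_iff_of_isOpenImmersion e.hom w, isCI_spec_iff, isCI_spec_iff]
  have hQ : (pullback.snd (Spec.map (CommRingCat.ofHom (algebraMap K K')))
      (Spec.map (CommRingCat.ofHom (algebraMap K A₀)))) w =
      ⟨(e.hom w).asIdeal.comap (Algebra.TensorProduct.includeRight : A₀ →ₐ[K] K' ⊗[K] A₀).toRingHom,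
        Ideal.IsPrime.comap _⟩ := by
    rw [← pullbackSpecIso_hom_snd, Scheme.Hom.comp_apply]
    rfl
  rw [hQ]
  exact (isCI_tensor_iff (e.hom w).asIdeal).symm

/-- Complete intersection local rings and extensions of the base field. -/
theorem isCI_stalk_iff_baseChange {P P' : Scheme.{u}} {Φ : P' ⟶ P} {p : P ⟶ Spec (CommRingCat.of K)}
    {p' : P' ⟶ Spec (CommRingCat.of K')}
    (H : IsPullback Φ p' p (Spec.map (CommRingCat.ofHom (algebraMap K K')))) [LocallyOfFiniteType p] (u' : P') :
    Pi1.IsCompleteIntersection (P'.presheaf.stalk u') ↔ Pi1.IsCompleteIntersection (P.presheaf.stalk (Φ u')) := by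
  haveI : LocallyOfFiniteType p' := MorphismProperty.of_isPullback H ‹_›
  haveI : IsLocallyNoetherian P' := LocallyOfFiniteType.isLocallyNoetherian p'
  haveI : IsLocallyNoetherian P := LocallyOfFiniteType.isLocallyNoetherian p
  let i := P.affineOpenCover.idx (Φ u')
  let j := P.affineOpenCover.f i
  obtain ⟨ψ, hψ⟩ := Spec.map_surjective (j ≫ p)
  letI : Algebra K (P.affineOpenCover.X i) := ψ.hom.toAlgebra
  have hjp : j ≫ p = Spec.map (CommRingCat.ofHom (algebraMap K (P.affineOpenCover.X i))) := hψ.symm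
  haveI : Algebra.FiniteType K (P.affineOpenCover.X i) := by
    have h : LocallyOfFiniteType (Spec.map (CommRingCat.ofHom (algebraMap K (P.affineOpenCover.X i)))) := by
      rw [← hjp]; infer_instance
    exact (HasRingHomProperty.Spec_iff (P := @LocallyOfFiniteType)).mp h
  let g := Spec.map (CommRingCat.ofHom (algebraMap K K'))
  let ja := Spec.map (CommRingCat.ofHom (algebraMap K (P.affineOpenCover.X i)))
  have H1 : IsPullback (pullback.snd g ja) (pullback.fst g ja) (j ≫ p) g := by
    rw [hjp]; exact (IsPullback.of_hasPullback g ja).flip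
  let k : pullback g ja ⟶ P' := H.lift (pullback.snd g ja ≫ j) (pullback.fst g ja) (by rw [Category.assoc, H1.w])
  have H2 : IsPullback (pullback.snd g ja) k j Φ := by
    refine IsPullback.of_bot ?_ (H.lift_fst _ _ _).symm H
    rw [H.lift_snd]
    exact H1
  haveI : IsOpenImmersion k := MorphismProperty.of_isPullback H2 inferInstance
  obtain ⟨v, hv⟩ := P.affineOpenCover.covers (Φ u')
  obtain ⟨w, -, hw⟩ := Scheme.Pullback.exists_preimage_pullback v u' hv
  let iso := H2.isoPullback
  obtain ⟨w', hw'⟩ : ∃ w', k w' = u' := ⟨iso.inv w, by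
    rw [← Scheme.Hom.comp_apply, H2.isoPullback_inv_snd]; exact hw⟩
  rw [← hw', ← isCI_stalk_iff_of_isOpenImmersion k w', isCI_iff_baseChange_spec w',
    show Φ (k w') = j (pullback.snd g ja w') by rw [← Scheme.Hom.comp_apply, H.lift_fst, Scheme.Hom.comp_apply],
    ← isCI_stalk_iff_of_isOpenImmersion j]
  exact Iff.rfl

/-- Complete intersection fibres and base change. -/
theorem fibre_ci_baseChange {X S X' S' : Scheme.{u}} {f : X ⟶ S} {f' : X' ⟶ S'} {g : S' ⟶ S} {g' : X' ⟶ X}
    (hc : IsPullback g' f' f g) (x' : X') [LocallyOfFiniteType f] :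
    Pi1.IsCompleteIntersection ((f'.fiber (f' x')).presheaf.stalk (f'.asFiber x')) ↔
      Pi1.IsCompleteIntersection ((f.fiber (f (g' x'))).presheaf.stalk (f.asFiber (g' x'))) := by
  have hkey : ∀ {s : S} (u : f.fiber s) (y : X), f.fiberι s u = y →
      (Pi1.IsCompleteIntersection ((f.fiber s).presheaf.stalk u) ↔
        Pi1.IsCompleteIntersection ((f.fiber (f y)).presheaf.stalk (f.asFiber y))) := by
    intro s u y hy
    obtain rfl : f y = s := by rw [← hy]; exact (f.range_fiberι s).subset (Set.mem_range_self u)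
    obtain rfl : u = f.asFiber y :=
      (f.fiberι _).isEmbedding.injective (hy.trans (f.fiberι_asFiber y).symm)
    exact Iff.rfl
  have hsq := isPullback_fiberToSpecResidueField_of_isPullback hc (f' x')
  letI : Algebra (S.residueField (g (f' x'))) (S'.residueField (f' x')) :=
    (g.residueFieldMap (f' x')).hom.toAlgebra
  haveI : LocallyOfFiniteType (f.fiberToSpecResidueField (g (f' x'))) :=
    H8Props.FieldDim.locallyOfFiniteType_fiberToSpec f _
  refine (isCI_stalk_iff_baseChange (K := S.residueField (g (f' x'))) (K' := S'.residueField (f' x'))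
    (p := f.fiberToSpecResidueField (g (f' x'))) hsq (f'.asFiber x')).trans (hkey _ _ ?_)
  erw [← Scheme.Hom.comp_apply, pullback.lift_fst]
  exact congrArg g' (f'.fiberι_asFiber x')

/-- The fibre stalk as a quotient. -/
theorem isCI_fiberStalk_iff {X S : Scheme.{u}} (f : X ⟶ S) [LocallyOfFiniteType f] (x : X)
    [IsLocalRing (X.presheaf.stalk x ⧸ (maximalIdeal (S.presheaf.stalk (f x))).map (f.stalkMap x).hom)] :
    Pi1.IsCompleteIntersection (X.presheaf.stalk x ⧸ (maximalIdeal (S.presheaf.stalk (f x))).map (f.stalkMap x).hom) ↔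
      Pi1.IsCompleteIntersection (CInt.fiberStalk f x) := by
  haveI : LocallyOfFiniteType (f.fiberToSpecResidueField (f x)) := H8Props.FieldDim.locallyOfFiniteType_fiberToSpec f _
  haveI : IsLocallyNoetherian (f.fiber (f x)) := LocallyOfFiniteType.isLocallyNoetherian (f.fiberToSpecResidueField (f x))
  exact (isCI_congr (A := CInt.fiberStalk f x) (H8Props.FibreStalk.asFiberStalkEquiv f x).symm).symm

/-- Composition: complete intersection fibres. -/
theorem isCI_fiberStalk_comp {X Y Z : Scheme.{u}} (f : X ⟶ Y) (g : Y ⟶ Z) [Flat f] [LocallyOfFiniteType f]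
    [LocallyOfFiniteType g] (x : X) (hf : Pi1.IsCompleteIntersection (CInt.fiberStalk f x))
    (hg : Pi1.IsCompleteIntersection (CInt.fiberStalk g (f x))) :
    Pi1.IsCompleteIntersection (CInt.fiberStalk (f ≫ g) x) := by
  have hcomp : ((f ≫ g).stalkMap x).hom = (f.stalkMap x).hom.comp (g.stalkMap (f x)).hom := by
    rw [Scheme.Hom.stalkMap_comp]; rfl
  letI := (f.stalkMap x).hom.toAlgebra
  let B := Y.presheaf.stalk (f x)
  let C := X.presheaf.stalk x
  let I : Ideal B := (maximalIdeal (Z.presheaf.stalk (g (f x)))).map (g.stalkMap (f x)).hom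
  have hIm : I ≤ maximalIdeal B := map_maximalIdeal_le _
  haveI : IsLocalHom (algebraMap B C) := inferInstanceAs (IsLocalHom (f.stalkMap x).hom)
  have hIC : I.map (algebraMap B C) ≤ maximalIdeal C := (Ideal.map_mono hIm).trans (map_maximalIdeal_le _)
  haveI : Nontrivial (B ⧸ I) := Ideal.Quotient.nontrivial_iff.mpr (ne_top_of_le_ne_top (maximalIdeal.isMaximal B).ne_top hIm)
  haveI : Nontrivial (C ⧸ I.map (algebraMap B C)) :=
    Ideal.Quotient.nontrivial_iff.mpr (ne_top_of_le_ne_top (maximalIdeal.isMaximal C).ne_top hIC)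
  haveI : IsLocalRing (B ⧸ I) := .of_surjective' _ Ideal.Quotient.mk_surjective
  haveI : IsLocalRing (C ⧸ I.map (algebraMap B C)) := .of_surjective' _ Ideal.Quotient.mk_surjective
  haveI : IsNoetherianRing (B ⧸ I) := by
    haveI : LocallyOfFiniteType (g.fiberToSpecResidueField (g (f x))) :=
      H8Props.FieldDim.locallyOfFiniteType_fiberToSpec g _
    exact H8Props.CMAt.isNoetherianRing_fibre g (f x)
      (LocallyOfFiniteType.isLocallyNoetherian (g.fiberToSpecResidueField (g (f x))))
  have hB : Pi1.IsCompleteIntersection (B ⧸ I) := (isCI_fiberStalk_iff g (f x)).mpr hg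
  haveI : Module.Flat B C := Flat.stalkMap f x
  haveI := H8Props.FlatDepth.flat_base_quotient (B := C) I
  haveI := H8Props.FlatDepth.isLocalHom_quotient (B := C) I
  have hmax := H8Props.FlatDepth.map_maximalIdeal_quotient (B := C) I
  haveI : Algebra.EssFiniteType B C := LocallyOfFiniteType.stalkMap f x
  haveI : Algebra.EssFiniteType (B ⧸ I) (C ⧸ I.map (algebraMap B C)) :=
    Algebra.EssFiniteType.of_comp B (B ⧸ I) (C ⧸ I.map (algebraMap B C))
  let mC : Ideal C := (maximalIdeal B).map (algebraMap B C)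
  haveI : Nontrivial (C ⧸ mC) :=
    Ideal.Quotient.nontrivial_iff.mpr (ne_top_of_le_ne_top (maximalIdeal.isMaximal C).ne_top (map_maximalIdeal_le _))
  haveI : IsLocalRing (C ⧸ mC) := .of_surjective' _ Ideal.Quotient.mk_surjective
  haveI : IsNoetherianRing (C ⧸ mC) := by
    haveI : LocallyOfFiniteType (f.fiberToSpecResidueField (f x)) := H8Props.FieldDim.locallyOfFiniteType_fiberToSpec f _
    exact H8Props.CMAt.isNoetherianRing_fibre f x (LocallyOfFiniteType.isLocallyNoetherian (f.fiberToSpecResidueField (f x)))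
  let e : ((C ⧸ I.map (algebraMap B C)) ⧸
      (maximalIdeal (B ⧸ I)).map (algebraMap (B ⧸ I) (C ⧸ I.map (algebraMap B C)))) ≃+* C ⧸ mC :=
    (Ideal.quotEquivOfEq hmax).trans ((DoubleQuot.quotQuotEquivQuotSup _ _).trans
      (Ideal.quotEquivOfEq (sup_eq_right.mpr (Ideal.map_mono hIm))))
  haveI : IsLocalRing ((C ⧸ I.map (algebraMap B C)) ⧸
      (maximalIdeal (B ⧸ I)).map (algebraMap (B ⧸ I) (C ⧸ I.map (algebraMap B C)))) := e.symm.isLocalRing
  have hF : Pi1.IsCompleteIntersection (C ⧸ mC) := (isCI_fiberStalk_iff f x).mpr hf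
  have hC := isCI_of_eft (A := B ⧸ I) (B := C ⧸ I.map (algebraMap B C)) hB (isCI_of_ringEquiv e.symm hF)
  haveI : LocallyOfFiniteType (f ≫ g) := inferInstance
  have hJ : I.map (algebraMap B C) = (maximalIdeal (Z.presheaf.stalk (g (f x)))).map ((f ≫ g).stalkMap x).hom := by
    rw [hcomp]; exact Ideal.map_map _ _
  haveI : IsLocalRing (C ⧸ (maximalIdeal (Z.presheaf.stalk ((f ≫ g) x))).map ((f ≫ g).stalkMap x).hom) :=
    (Ideal.quotEquivOfEq hJ).isLocalRing
  haveI : IsNoetherianRing (C ⧸ I.map (algebraMap B C)) := Algebra.EssFiniteType.isNoetherianRing (B ⧸ I) _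
  exact (isCI_fiberStalk_iff (f ≫ g) x).mp (isCI_of_ringEquiv (Ideal.quotEquivOfEq hJ) hC)

end Groth.Agent.H13CI
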