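import Groth.Agent.H13CI.Basic
import Groth.Agent.H13CI.EFT
import Groth.Agent.H05EGA4.FlatLiftFS
import Groth.Agent.H05EGA4.Regular2
import Groth.Agent.H05EGA4.FieldSmooth
import Groth.Agent.H05EGA4.FlatFibreFS

/-!
# The complete intersection defect along flat local maps with smooth residue extension
-/

set_option autoImplicit false
set_option linter.style.haveILetI false

universe u

open IsLocalRing TensorProduct

namespace Groth.Agent.H13CI.DefectFlat

/-- A presentation of a flat extension with trivial closed fibre lifts a given presentation. -/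
theorem exists_presentation (B : Type u) [CommRing B] [IsRegularLocalRing B] (J : Ideal B) (hJ : J ≤ maximalIdeal B)
    [IsLocalRing (B ⧸ J)] (T : Type u) [CommRing T] [IsLocalRing T] [IsNoetherianRing T]
    [IsAdicComplete (maximalIdeal T) T] [Algebra (B ⧸ J) T] [IsLocalHom (algebraMap (B ⧸ J) T)]
    [Module.Flat (B ⧸ J) T] (hm : (maximalIdeal (B ⧸ J)).map (algebraMap (B ⧸ J) T) = maximalIdeal T)
    (hfib : CAlgX.IsAdicFormallySmooth ((B ⧸ J) ⧸ maximalIdeal (B ⧸ J))
      (T ⧸ (maximalIdeal (B ⧸ J)).map (algebraMap (B ⧸ J) T))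
      ((maximalIdeal T).map (Ideal.Quotient.mk ((maximalIdeal (B ⧸ J)).map (algebraMap (B ⧸ J) T))))) :
    ∃ (C : Type u) (_ : CommRing C) (_ : IsRegularLocalRing C) (π : C →+* T), Function.Surjective π ∧
      ringKrullDim C = ringKrullDim B ∧ (RingHom.ker π).spanFinrank = J.spanFinrank := by
  have hfs : EGA41.IsFormallySmoothAdic (B ⧸ J) (maximalIdeal (B ⧸ J)) T (maximalIdeal T) :=
    (H05EGA4.isFormallySmoothAdic_iff_isAdicFormallySmooth _ _ ⟨1, by rw [pow_one]; exact hm.le⟩).2
      (H05EGA4.isAdicFormallySmooth_of_flat_of_fibre hfib)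
  obtain ⟨C, _, _, _, _, _, -, hflat, ⟨u⟩⟩ := (H05EGA4.FlatLiftFS.main J hJ T hfs).1
  letI : Algebra B T := ((algebraMap (B ⧸ J) T).comp (algebraMap B (B ⧸ J))).toAlgebra
  haveI : IsScalarTower B (B ⧸ J) T := .of_algebraMap_eq fun _ => rfl
  obtain ⟨π, -, hπs, hπk⟩ := H05EGA4.FlatLiftFS.exists_proj u
  haveI : Module.Flat B C := hflat
  have hmC : (maximalIdeal B).map (algebraMap B C) = maximalIdeal C := by
    refine le_antisymm (H05EGA4.FlatLiftFS.map_max_le _) fun c hc => ?_
    have h1 : π.toRingHom c ∈ ((maximalIdeal B).map (algebraMap B C)).map π.toRingHom := by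
      haveI : IsLocalHom π.toRingHom := hπs.isLocalHom _
      rw [Ideal.map_map, show π.toRingHom.comp (algebraMap B C) = algebraMap B T from π.comp_algebraMap,
        IsScalarTower.algebraMap_eq B (B ⧸ J) T, ← Ideal.map_map, Ideal.Quotient.algebraMap_eq,
        map_maximalIdeal_of_surjective _ Ideal.Quotient.mk_surjective, hm]
      exact map_nonunit π.toRingHom c hc
    have h2 : c ∈ (((maximalIdeal B).map (algebraMap B C)).map π.toRingHom).comap π.toRingHom := h1
    rw [Ideal.comap_map_of_surjective' π.toRingHom hπs, hπk] at h2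
    have h3 : (maximalIdeal B).map (algebraMap B C) ⊔ J.map (algebraMap B C) ≤ (maximalIdeal B).map (algebraMap B C) :=
      sup_le le_rfl (Ideal.map_mono hJ)
    exact h3 h2
  haveI : IsLocalRing (C ⧸ (maximalIdeal B).map (algebraMap B C)) := by
    haveI : Nontrivial (C ⧸ (maximalIdeal B).map (algebraMap B C)) :=
      Ideal.Quotient.nontrivial_iff.mpr (hmC ▸ (maximalIdeal.isMaximal C).ne_top)
    exact IsLocalRing.of_surjective' (Ideal.Quotient.mk _) Ideal.Quotient.mk_surjective
  have hbot : maximalIdeal (C ⧸ (maximalIdeal B).map (algebraMap B C)) = ⊥ := by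
    rw [← map_maximalIdeal_of_surjective _ Ideal.Quotient.mk_surjective, ← hmC, Ideal.map_quotient_self]
  haveI := H05EGA4.isRegularLocalRing_of_maximalIdeal_eq_bot _ hbot
  haveI : IsRegularLocalRing C := H05EGA4.isRegularLocalRing_of_flat_of_fibre B C
  refine ⟨C, inferInstance, inferInstance, π.toRingHom, hπs, ?_, ?_⟩
  · rw [H05EGA4.ringKrullDim_eq_add_of_flat B C,
      ringKrullDim_eq_zero_of_isField (isField_iff_maximalIdeal_eq.mpr hbot), add_zero]
  · rw [hπk]
    exact spanFinrank_map_of_flat _ (RingHom.flat_algebraMap_iff.mpr inferInstance) J (IsNoetherian.noetherian J)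

theorem main (A A' : Type u) [CommRing A] [IsLocalRing A] [IsNoetherianRing A] [CommRing A'] [IsLocalRing A']
    [IsNoetherianRing A'] [Algebra A A'] [IsLocalHom (algebraMap A A')] [Module.Flat A A']
    (hmax : Ideal.map (algebraMap A A') (maximalIdeal A) = maximalIdeal A')
    (hsep : Algebra.FormallySmooth (ResidueField A) (ResidueField A'))
    (B B' : Type u) [CommRing B] [IsRegularLocalRing B] [CommRing B'] [IsRegularLocalRing B']
    (I : Ideal B) (I' : Ideal B') (ê : AdicCompletion (maximalIdeal A) A ≃+* B ⧸ I)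
    (ê' : AdicCompletion (maximalIdeal A') A' ≃+* B' ⧸ I') (e e' : ℕ)
    (he : ringKrullDim B = (e : WithBot ℕ∞)) (he' : ringKrullDim B' = (e' : WithBot ℕ∞)) :
    (e : ℤ) - (I.spanFinrank : ℤ) = (e' : ℤ) - (I'.spanFinrank : ℤ) := by
  haveI := H05EGA4.isNoetherianRing_adicCompletion A (maximalIdeal A)
  haveI := H05EGA4.isNoetherianRing_adicCompletion A' (maximalIdeal A')
  haveI : IsAdicComplete (maximalIdeal (AdicCompletion (maximalIdeal A') A')) (AdicCompletion (maximalIdeal A') A') := by
    rw [AdicCompletion.maximalIdeal_eq_map]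
    exact AdicCompletion.isAdicComplete_self _ (IsNoetherian.noetherian _)
  haveI : IsLocalRing (B ⧸ I) := ê.isLocalRing
  have hI : I ≤ maximalIdeal B := le_maximalIdeal fun h => by
    haveI := (Ideal.Quotient.subsingleton_iff (I := I)).mpr h
    exact not_subsingleton (B ⧸ I) inferInstance
  obtain ⟨ψ, hψ⟩ := exists_completion_map (algebraMap A A')
  haveI := H02CA.isLocalHom_completion (algebraMap A A') ψ hψ
  have hflat : ψ.Flat := (H02CA.flat_completion_iff (algebraMap A A') ψ hψ).2 (RingHom.flat_algebraMap_iff.mpr inferInstance)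
  let φ : B ⧸ I →+* AdicCompletion (maximalIdeal A') A' := ψ.comp ê.symm.toRingHom
  haveI : IsLocalHom ê.symm.toRingHom := ⟨fun x hx => by
    have := hx.map ê
    simpa using this⟩
  haveI : IsLocalHom φ := RingHom.isLocalHom_comp ψ ê.symm.toRingHom
  letI : Algebra (B ⧸ I) (AdicCompletion (maximalIdeal A') A') := φ.toAlgebra
  haveI : IsLocalHom (algebraMap (B ⧸ I) (AdicCompletion (maximalIdeal A') A')) := ‹IsLocalHom φ›
  haveI : Module.Flat (B ⧸ I) (AdicCompletion (maximalIdeal A') A') :=
    RingHom.Flat.comp (RingHom.Flat.of_bijective ê.symm.bijective) hflat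
  let ι : A →+* B ⧸ I := ê.toRingHom.comp (algebraMap A (AdicCompletion (maximalIdeal A) A))
  have hι : φ.comp ι = (algebraMap A' (AdicCompletion (maximalIdeal A') A')).comp (algebraMap A A') := by
    rw [← hψ]
    ext a
    simp [φ, ι]
  have hιm : (maximalIdeal A).map ι = maximalIdeal (B ⧸ I) := by
    rw [← Ideal.map_map, ← AdicCompletion.maximalIdeal_eq_map]
    exact map_maximalIdeal_of_surjective _ ê.surjective
  have hm : (maximalIdeal (B ⧸ I)).map (algebraMap (B ⧸ I) (AdicCompletion (maximalIdeal A') A')) =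
      maximalIdeal (AdicCompletion (maximalIdeal A') A') := by
    show (maximalIdeal (B ⧸ I)).map φ = _
    rw [← hιm, Ideal.map_map, hι, ← Ideal.map_map, hmax, AdicCompletion.maximalIdeal_eq_map]
  have hfib : CAlgX.IsAdicFormallySmooth ((B ⧸ I) ⧸ maximalIdeal (B ⧸ I))
      ((AdicCompletion (maximalIdeal A') A') ⧸ (maximalIdeal (B ⧸ I)).map (algebraMap (B ⧸ I) (AdicCompletion (maximalIdeal A') A')))
      ((maximalIdeal (AdicCompletion (maximalIdeal A') A')).map (Ideal.Quotient.mk
        ((maximalIdeal (B ⧸ I)).map (algebraMap (B ⧸ I) (AdicCompletion (maximalIdeal A') A'))))) := by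
    haveI : IsLocalHom ι := ((local_hom_TFAE ι).out 0 2).mpr hιm.le
    have b0 : Function.Bijective (ResidueField.map ι) := by
      haveI : IsLocalHom ê.toRingHom := ⟨fun x hx => by
        have := hx.map ê.symm
        simpa using this⟩
      rw [ResidueField.map_comp]
      exact ((ResidueField.mapEquiv ê).bijective).comp (AdicCompletion.residueField_map_bijective A)
    let e₁ : ResidueField A' ≃+* (AdicCompletion (maximalIdeal A') A') ⧸
        (maximalIdeal (B ⧸ I)).map (algebraMap (B ⧸ I) (AdicCompletion (maximalIdeal A') A')) :=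
      (RingEquiv.ofBijective _ (AdicCompletion.residueField_map_bijective A')).trans (Ideal.quotEquivOfEq hm.symm)
    let e₀ : ResidueField A ≃+* (B ⧸ I) ⧸ maximalIdeal (B ⧸ I) := RingEquiv.ofBijective _ b0
    refine H05EGA4.isAdicFormallySmooth_of_ringEquiv e₀ e₁ (fun r => ?_) ?_
      (H05EGA4.isAdicFormallySmooth_of_formallySmooth (k := ResidueField A) (K := ResidueField A') ⊥)
    · obtain ⟨a, rfl⟩ := residue_surjective r
      show Ideal.Quotient.mk _ (algebraMap A' (AdicCompletion (maximalIdeal A') A') (algebraMap A A' a)) =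
        Ideal.Quotient.mk _ (φ (ι a))
      rw [show φ (ι a) = _ from RingHom.congr_fun hι a]
      rfl
    · rw [Ideal.map_bot, eq_comm, Ideal.map_eq_bot_iff_le_ker, Ideal.mk_ker, hm]
  obtain ⟨C, _, _, π, hπs, hdim, hμ⟩ := exists_presentation B I hI _ hm hfib
  rw [← hμ]
  haveI : IsLocalRing (B' ⧸ I') := ê'.isLocalRing
  have h2 := diff_eq π hπs (ê'.symm.toRingHom.comp (Ideal.Quotient.mk I'))
    (ê'.symm.surjective.comp Ideal.Quotient.mk_surjective) (hdim.trans he) he'
  rwa [RingHom.ker_comp_of_injective _ ê'.symm.injective, Ideal.mk_ker] at h2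

end Groth.Agent.H13CI.DefectFlat
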