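import Groth.Agent.H8Props.FibreStalk
import Groth.Agent.H8Props.FlatDepth
import Groth.Prelude.Def_CInt

/-!
# Local rings of fibres of open subschemes
-/

set_option autoImplicit false
set_option linter.style.haveILetI false
set_option backward.isDefEq.respectTransparency false

universe u

open CategoryTheory CategoryTheory.Limits AlgebraicGeometry TopologicalSpace IsLocalRing

namespace Groth.Agent.H13CI

/-- A zero dimensional Noetherian local ring is Cohen–Macaulay. -/
theorem isCM_of_dim_zero (R : Type u) [CommRing R] [IsLocalRing R] [IsNoetherianRing R]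
    (h : ringKrullDim R = 0) : LocCoh.IsCohenMacaulayLocalRing R := by
  rw [H8Props.FlatDepth.isCM_iff_dim, h]
  have h1 := H8Props.FlatDepth.depth_le_dim R
  rw [h] at h1
  exact le_antisymm (WithBot.coe_le_coe.2 bot_le) h1

/-- The local ring of a fibre does not change on an open subscheme. -/
noncomputable def fiberStalkEquiv {X S : Scheme.{u}} (W : X.Opens) (g : X ⟶ S) (x : W.toScheme) :
    CInt.fiberStalk (W.ι ≫ g) x ≃+* CInt.fiberStalk g (W.ι x) :=
  (H8Props.FibreStalk.asFiberStalkEquiv (W.ι ≫ g) x).symm.trans
    ((Ideal.quotientEquiv _ _ (asIso (W.ι.stalkMap x)).commRingCatIsoToRingEquiv.symm (by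
      rw [Scheme.Hom.stalkMap_comp, CommRingCat.hom_comp, ← Ideal.map_map]
      exact (Ideal.map_of_equiv (asIso (W.ι.stalkMap x)).commRingCatIsoToRingEquiv).symm)).trans
      (H8Props.FibreStalk.asFiberStalkEquiv g (W.ι x)))

end Groth.Agent.H13CI
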