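import Groth.Agent.H13CI.EFT
import Groth.Agent.H9CI.Presentation
import Groth.Agent.H8Props.PseudoCoh.RingMap

/-!
# Complete intersections over fields: invariance under field extensions
-/

set_option autoImplicit false
set_option linter.style.haveILetI false

universe u

open IsLocalRing TensorProduct

namespace Groth.Agent.H13CI

open H9CI (IsCIKer exists_nat_dim)

/-- Invariance along a flat local map of regular local rings. -/
theorem isCI_iff_of_baseChange {R S A B : Type u} [CommRing R] [IsRegularLocalRing R] [CommRing S] [IsRegularLocalRing S]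
    [CommRing A] [IsLocalRing A] [CommRing B] [IsLocalRing B] (φ : R →+* S) (hφ : φ.Flat) [IsLocalHom φ]
    (f : R →+* A) (hf : Function.Surjective f) (g : S →+* B) (hg : Function.Surjective g)
    (hker : RingHom.ker g = (RingHom.ker f).map φ) :
    Pi1.IsCompleteIntersection A ↔ Pi1.IsCompleteIntersection B := by
  haveI : IsNoetherianRing A := isNoetherianRing_of_surjective R A f hf
  haveI : IsNoetherianRing B := isNoetherianRing_of_surjective S B g hg
  haveI : IsLocalHom f := hf.isLocalHom f
  haveI : IsLocalHom g := hg.isLocalHom g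
  -- the induced flat map
  let eA := RingHom.quotientKerEquivOfSurjective hf
  let eB := RingHom.quotientKerEquivOfSurjective hg
  letI := φ.toAlgebra
  haveI : Module.Flat R S := hφ
  haveI : IsLocalHom (algebraMap R S) := ‹IsLocalHom φ›
  let I := RingHom.ker f
  have hker' : RingHom.ker g = I.map (algebraMap R S) := hker
  haveI : IsLocalRing (R ⧸ I) := eA.symm.isLocalRing
  haveI : IsLocalRing (S ⧸ I.map (algebraMap R S)) := (eB.symm.trans (Ideal.quotEquivOfEq hker')).isLocalRing
  rw [isCI_iff f hf, isCI_iff g hg]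
  let ψ : R ⧸ I →+* S ⧸ I.map (algebraMap R S) := Ideal.quotientMap _ (algebraMap R S) Ideal.le_comap_map
  have hflat := flat_quotient_map (B := R) (B' := S) I
  haveI : IsLocalHom ψ := ⟨fun z hz => by
    obtain ⟨r, rfl⟩ := Ideal.Quotient.mk_surjective z
    haveI : IsLocalHom (Ideal.Quotient.mk (I.map (algebraMap R S))) := Ideal.Quotient.mk_surjective.isLocalHom _
    exact (isUnit_of_map_unit (algebraMap R S) r (isUnit_of_map_unit (Ideal.Quotient.mk (I.map (algebraMap R S))) _ hz)).map _⟩
  letI := ψ.toAlgebra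
  haveI : IsLocalHom (algebraMap (R ⧸ I) (S ⧸ I.map (algebraMap R S))) := ‹IsLocalHom ψ›
  haveI : Module.Flat (R ⧸ I) (S ⧸ I.map (algebraMap R S)) := hflat
  have hd1 := H05EGA4.ringKrullDim_eq_add_of_flat R S
  have hd2 := H05EGA4.ringKrullDim_eq_add_of_flat (R ⧸ I) (S ⧸ I.map (algebraMap R S))
  have hfib : (maximalIdeal (R ⧸ I)).map (algebraMap (R ⧸ I) (S ⧸ I.map (algebraMap R S))) =
      ((maximalIdeal R).map (algebraMap R S)).map (Ideal.Quotient.mk _) := by
    rw [← IsLocalRing.map_maximalIdeal_of_surjective (Ideal.Quotient.mk I) Ideal.Quotient.mk_surjective, Ideal.map_map,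
      Ideal.map_map]
    rfl
  have hle : I.map (algebraMap R S) ≤ (maximalIdeal R).map (algebraMap R S) :=
    Ideal.map_mono (le_maximalIdeal (RingHom.ker_ne_top f))
  rw [ringKrullDim_eq_of_ringEquiv ((Ideal.quotEquivOfEq hfib).trans
    ((DoubleQuot.quotQuotEquivQuotSup _ _).trans (Ideal.quotEquivOfEq (sup_eq_right.mpr hle)))),
    ringKrullDim_eq_of_ringEquiv eA, ← ringKrullDim_eq_of_ringEquiv ((eB.symm.trans (Ideal.quotEquivOfEq hker'))),
    ] at hd2
  have hμ : (RingHom.ker g).spanFinrank = I.spanFinrank := by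
    rw [hker]; exact spanFinrank_map_of_flat φ hφ I (IsNoetherian.noetherian _)
  have hmne : (maximalIdeal R).map (algebraMap R S) ≠ ⊤ := fun h =>
    (maximalIdeal.isMaximal S).ne_top (top_le_iff.mp (h ▸ map_maximalIdeal_le _))
  haveI : Nontrivial (S ⧸ (maximalIdeal R).map (algebraMap R S)) := Ideal.Quotient.nontrivial_iff.mpr hmne
  haveI : IsLocalRing (S ⧸ (maximalIdeal R).map (algebraMap R S)) :=
    IsLocalRing.of_surjective' _ Ideal.Quotient.mk_surjective
  obtain ⟨r₁, h₁⟩ := exists_nat_dim R
  obtain ⟨r₂, h₂⟩ := exists_nat_dim S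
  obtain ⟨r₃, h₃⟩ := exists_nat_dim A
  obtain ⟨r₄, h₄⟩ := exists_nat_dim B
  obtain ⟨r₅, h₅⟩ := exists_nat_dim (S ⧸ (maximalIdeal R).map (algebraMap R S))
  rw [h₃, h₄, h₅] at hd2
  rw [h₁, h₂, h₅] at hd1
  unfold IsCIKer
  rw [hμ, h₁, h₂, h₃, h₄]
  norm_cast at hd1 hd2 ⊢
  change r₃ + I.spanFinrank ≤ r₁ ↔ _
  omega

/-- Polynomial rings are flat along flat base change. -/
theorem flat_map_mvPolynomial (k k' : Type u) [CommRing k] [CommRing k'] [Algebra k k'] [Module.Flat k k'] (n : ℕ) :
    (MvPolynomial.map (σ := Fin n) (algebraMap k k')).Flat := by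
  letI := MvPolynomial.algebraMvPolynomial (σ := Fin n) (R := k) (S := k')
  have h : Module.Flat (MvPolynomial (Fin n) k) (MvPolynomial (Fin n) k') :=
    Module.Flat.isBaseChange k (MvPolynomial (Fin n) k) k' (MvPolynomial (Fin n) k')
      (Algebra.IsPushout.symm (inferInstance : Algebra.IsPushout k k' (MvPolynomial (Fin n) k) (MvPolynomial (Fin n) k'))).out
  exact RingHom.flat_algebraMap_iff.mpr h

/-- The local rings of a finitely generated algebra over a field and of its base change to a larger field. -/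
theorem isCI_tensor_iff {k k' A₀ : Type u} [Field k] [Field k'] [Algebra k k'] [CommRing A₀] [Algebra k A₀]
    [Algebra.FiniteType k A₀] (Q : Ideal (k' ⊗[k] A₀)) [Q.IsPrime] :
    Pi1.IsCompleteIntersection (Localization.AtPrime
        (Q.comap (Algebra.TensorProduct.includeRight : A₀ →ₐ[k] k' ⊗[k] A₀).toRingHom)) ↔
      Pi1.IsCompleteIntersection (Localization.AtPrime Q) := by
  obtain ⟨n, π, hπ⟩ := Algebra.FiniteType.iff_quotient_mvPolynomial''.mp (inferInstance : Algebra.FiniteType k A₀)
  let inc : A₀ →ₐ[k] k' ⊗[k] A₀ := Algebra.TensorProduct.includeRight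
  let e := MvPolynomial.algebraTensorAlgEquiv (σ := Fin n) k k'
  let π' : MvPolynomial (Fin n) k' →ₐ[k'] k' ⊗[k] A₀ :=
    (Algebra.TensorProduct.map (AlgHom.id k' k') π).comp e.symm.toAlgHom
  let m : MvPolynomial (Fin n) k →+* MvPolynomial (Fin n) k' := MvPolynomial.map (algebraMap k k')
  have he : ∀ p, e ((1 : k') ⊗ₜ[k] p) = m p := fun p => by
    rw [MvPolynomial.algebraTensorAlgEquiv_tmul, one_smul]
  have hπ' : Function.Surjective π' :=
    (LinearMap.lTensor_surjective k' hπ : Function.Surjective (LinearMap.lTensor k' π.toLinearMap)).comp e.symm.surjective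
  have hker : RingHom.ker π'.toRingHom = (RingHom.ker π.toRingHom).map m := by
    refine le_antisymm (fun z hz => ?_) (Ideal.map_le_iff_le_comap.mpr fun p hp => ?_)
    · have h1 : e.symm z ∈ RingHom.ker (Algebra.TensorProduct.map (AlgHom.id k k') π) := hz
      rw [Algebra.TensorProduct.lTensor_ker π hπ] at h1
      have h2 := Ideal.mem_map_of_mem e.toAlgHom.toRingHom h1
      rw [show z = e.toAlgHom.toRingHom (e.symm z) from (e.apply_symm_apply z).symm]
      refine Ideal.map_le_iff_le_comap.mpr (Ideal.map_le_iff_le_comap.mpr fun p hp => ?_) h2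
      show e ((1 : k') ⊗ₜ[k] p) ∈ (RingHom.ker π.toRingHom).map m
      rw [he]; exact Ideal.mem_map_of_mem m hp
    · show π' (m p) = 0
      rw [← he, show π' (e ((1 : k') ⊗ₜ[k] p)) = Algebra.TensorProduct.map (AlgHom.id k' k') π (e.symm (e ((1 : k') ⊗ₜ[k] p))) from rfl,
        e.symm_apply_apply, Algebra.TensorProduct.map_tmul, show π p = 0 from hp, TensorProduct.tmul_zero]
  have hcomm : π'.toRingHom.comp m = inc.toRingHom.comp π.toRingHom := by
    refine RingHom.ext fun p => ?_
    show π' (m p) = (1 : k') ⊗ₜ[k] π p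
    rw [← he, show π' (e ((1 : k') ⊗ₜ[k] p)) = Algebra.TensorProduct.map (AlgHom.id k' k') π (e.symm (e ((1 : k') ⊗ₜ[k] p))) from rfl,
      e.symm_apply_apply, Algebra.TensorProduct.map_tmul]
    rfl
  let q := Q.comap inc.toRingHom
  let p' := Q.comap π'.toRingHom
  let p := q.comap π.toRingHom
  have hpp : p = p'.comap m := by
    show (Q.comap inc.toRingHom).comap π.toRingHom = (Q.comap π'.toRingHom).comap m
    rw [Ideal.comap_comap, Ideal.comap_comap, hcomm]
  obtain ⟨f, hf, hkf⟩ := H9CI.exists_localization_presentation π hπ q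
  obtain ⟨g, hg, hkg⟩ := H9CI.exists_localization_presentation π' hπ' Q
  let φ : Localization.AtPrime p →+* Localization.AtPrime p' := Localization.localRingHom p p' m hpp
  have hφ : φ.Flat := (flat_map_mvPolynomial k k' n).localRingHom p' p hpp
  haveI : IsLocalHom φ := Localization.isLocalHom_localRingHom p p' m hpp
  refine isCI_iff_of_baseChange φ hφ f.toRingHom hf g.toRingHom hg ?_
  rw [hkg, hkf, hker, Ideal.map_map, Ideal.map_map]
  congr 1
  exact RingHom.ext fun x => (Localization.localRingHom_to_map p p' m hpp x).symm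

end Groth.Agent.H13CI
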