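import Groth.Agent.H13CI.Scheme

/-!
# Complete intersections and finitely generated extensions of the base field
-/

set_option autoImplicit false
set_option linter.style.haveILetI false

universe u

open CategoryTheory CategoryTheory.Limits AlgebraicGeometry IsLocalRing
open scoped TensorProduct

namespace Groth.Agent.H13CI

/-- A point with complete intersection fibre over a complete intersection. -/
theorem isCI_stalk_of_fiber {X S : Scheme.{u}} (f : X ⟶ S) [Flat f] [LocallyOfFiniteType f] (x : X)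
    [IsNoetherianRing (S.presheaf.stalk (f x))] (hs : Pi1.IsCompleteIntersection (S.presheaf.stalk (f x)))
    (hx : Pi1.IsCompleteIntersection (CInt.fiberStalk f x)) :
    Pi1.IsCompleteIntersection (X.presheaf.stalk x) := by
  letI := (f.stalkMap x).hom.toAlgebra
  haveI : Module.Flat (S.presheaf.stalk (f x)) (X.presheaf.stalk x) := Flat.stalkMap f x
  haveI : IsLocalHom (algebraMap (S.presheaf.stalk (f x)) (X.presheaf.stalk x)) :=
    inferInstanceAs (IsLocalHom (f.stalkMap x).hom)
  haveI : Algebra.EssFiniteType (S.presheaf.stalk (f x)) (X.presheaf.stalk x) := LocallyOfFiniteType.stalkMap f x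
  haveI : Nontrivial (X.presheaf.stalk x ⧸ (maximalIdeal (S.presheaf.stalk (f x))).map (algebraMap _ (X.presheaf.stalk x))) :=
    Ideal.Quotient.nontrivial_iff.mpr (ne_top_of_le_ne_top (maximalIdeal.isMaximal _).ne_top (map_maximalIdeal_le _))
  haveI : IsLocalRing (X.presheaf.stalk x ⧸ (maximalIdeal (S.presheaf.stalk (f x))).map (algebraMap _ (X.presheaf.stalk x))) :=
    .of_surjective' _ Ideal.Quotient.mk_surjective
  exact isCI_of_eft hs ((isCI_fiberStalk_iff f x).mpr hx)

/-- Ring isomorphisms preserve the complete intersection property of localisations. -/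
theorem isCI_localization_congr {A B : Type u} [CommRing A] [CommRing B] [IsNoetherianRing A] (e : A ≃+* B)
    (Q : Ideal B) [Q.IsPrime] :
    Pi1.IsCompleteIntersection (Localization.AtPrime (Q.comap e)) ↔ Pi1.IsCompleteIntersection (Localization.AtPrime Q) :=
  isCI_congr (IsLocalization.ringEquivOfRingEquiv (Localization.AtPrime (Q.comap e)) (Localization.AtPrime Q) e
    (e.map_primeCompl_comap_eq Q))

/-- The fibre of `Spec A₀ → Spec k` at a point which becomes the generic point of a localisation which is a field. -/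
theorem isCI_fiberStalk_of_field {k A₀ K : Type u} [Field k] [CommRing A₀] [Algebra k A₀] [Algebra.FiniteType k A₀]
    [Field K] [Algebra A₀ K] (ξ : Spec (CommRingCat.of A₀)) [IsLocalization.AtPrime K ξ.asIdeal] :
    Pi1.IsCompleteIntersection (CInt.fiberStalk (Spec.map (CommRingCat.ofHom (algebraMap k A₀))) ξ) := by
  haveI : IsNoetherianRing A₀ := Algebra.FiniteType.isNoetherianRing k A₀
  haveI : IsNoetherianRing (CommRingCat.of A₀) := ‹IsNoetherianRing A₀›
  let π₀ := Spec.map (CommRingCat.ofHom (algebraMap k A₀))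
  haveI : LocallyOfFiniteType π₀ := (HasRingHomProperty.Spec_iff (P := @LocallyOfFiniteType)).mpr
    (RingHom.finiteType_algebraMap.mpr ‹_›)
  haveI : IsLocallyNoetherian (Spec (CommRingCat.of A₀)) := isLocallyNoetherian_Spec.mpr inferInstance
  have hbot : maximalIdeal ((Spec (CommRingCat.of k)).presheaf.stalk (π₀ ξ)) = ⊥ :=
    isField_iff_maximalIdeal_eq.mp (H8Props.FibreStalk.isField_stalk_Spec _ (Field.toIsField k) _)
  have hm : (maximalIdeal ((Spec (CommRingCat.of k)).presheaf.stalk (π₀ ξ))).map (π₀.stalkMap ξ).hom = ⊥ := by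
    rw [hbot, Ideal.map_bot]
  let e := ((Ideal.quotEquivOfEq hm).trans (RingEquiv.quotientBot _))
  haveI := e.symm.isLocalRing
  rw [← isCI_fiberStalk_iff π₀ ξ, ← isCI_congr e.symm, isCI_spec_iff]
  haveI : IsRegularLocalRing K := inferInstance
  exact isCI_of_ringEquiv (IsLocalization.algEquiv ξ.asIdeal.primeCompl K (Localization.AtPrime ξ.asIdeal)).toRingEquiv
    (isCI_of_regular K)

/-- The localisations of `A₀ ⊗ R` lying over such a point. -/
theorem isCI_tensor_of_field_point {k A₀ K R : Type u} [Field k] [CommRing A₀] [Algebra k A₀] [Algebra.FiniteType k A₀]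
    [Field K] [Algebra A₀ K] [CommRing R] [Algebra k R] [IsNoetherianRing R]
    (hR : ∀ (p : Ideal R) [p.IsPrime], Pi1.IsCompleteIntersection (Localization.AtPrime p))
    (P₀ : Ideal (A₀ ⊗[k] R)) [P₀.IsPrime]
    [IsLocalization.AtPrime K (P₀.comap (Algebra.TensorProduct.includeLeftRingHom : A₀ →+* A₀ ⊗[k] R))] :
    Pi1.IsCompleteIntersection (Localization.AtPrime P₀) := by
  haveI : IsNoetherianRing (A₀ ⊗[k] R) := H02CA.isNoetherianRing_tensor_of_essFiniteType k R A₀
  haveI : IsNoetherianRing (CommRingCat.of (A₀ ⊗[k] R)) := ‹IsNoetherianRing (A₀ ⊗[k] R)›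
  haveI : IsNoetherianRing (CommRingCat.of R) := ‹IsNoetherianRing R›
  let f := Spec.map (CommRingCat.ofHom (Algebra.TensorProduct.includeRight : R →ₐ[k] A₀ ⊗[k] R).toRingHom)
  let g' := Spec.map (CommRingCat.ofHom (Algebra.TensorProduct.includeLeftRingHom : A₀ →+* A₀ ⊗[k] R))
  let π₀ := Spec.map (CommRingCat.ofHom (algebraMap k A₀))
  let g := Spec.map (CommRingCat.ofHom (algebraMap k R))
  have H : IsPullback g' f π₀ g :=
    isPullback_SpecMap_of_isPushout _ _ _ _ (CommRingCat.isPushout_tensorProduct k A₀ R)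
  haveI : LocallyOfFiniteType π₀ := (HasRingHomProperty.Spec_iff (P := @LocallyOfFiniteType)).mpr
    (RingHom.finiteType_algebraMap.mpr ‹_›)
  haveI : Flat π₀ := (HasRingHomProperty.Spec_iff (P := @Flat)).mpr
    (RingHom.flat_algebraMap_iff.mpr inferInstance)
  haveI : Flat f := MorphismProperty.of_isPullback H ‹Flat π₀›
  haveI : LocallyOfFiniteType f := MorphismProperty.of_isPullback H ‹LocallyOfFiniteType π₀›
  let x : Spec (CommRingCat.of (A₀ ⊗[k] R)) := ⟨P₀, inferInstance⟩
  haveI : IsLocallyNoetherian (Spec (CommRingCat.of R)) := isLocallyNoetherian_Spec.mpr inferInstance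
  have hs : Pi1.IsCompleteIntersection ((Spec (CommRingCat.of R)).presheaf.stalk (f x)) :=
    (isCI_spec_iff _ _).mpr (hR (f x).asIdeal)
  haveI : IsLocalization.AtPrime K (g' x).asIdeal := ‹_›
  have hx := (fibre_ci_baseChange H x).mpr (isCI_fiberStalk_of_field (k := k) (K := K) (g' x))
  exact (isCI_spec_iff (CommRingCat.of (A₀ ⊗[k] R)) x).mp (isCI_stalk_of_fiber f x hs hx)

theorem isCI_tensor_of_localization {k A₀ K R : Type u} [Field k] [Field K] [Algebra k K] [CommRing A₀] [Algebra k A₀]
    [Algebra.FiniteType k A₀] [Algebra A₀ K] [IsScalarTower k A₀ K] [Algebra.EssFiniteType k K]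
    (M : Submonoid A₀) (hM : ∀ {a}, a ∈ M ↔ IsUnit (algebraMap A₀ K a)) [IsLocalization M K]
    [CommRing R] [Algebra k R] [IsNoetherianRing R]
    (hR : ∀ (p : Ideal R) [p.IsPrime], Pi1.IsCompleteIntersection (Localization.AtPrime p))
    (P : Ideal (K ⊗[k] R)) [P.IsPrime] : Pi1.IsCompleteIntersection (Localization.AtPrime P) := by
  let ι : A₀ ⊗[k] R →ₐ[k] K ⊗[k] R :=
    Algebra.TensorProduct.map (IsScalarTower.toAlgHom k A₀ K) (AlgHom.id k R)
  letI : Algebra (A₀ ⊗[k] R) (K ⊗[k] R) := ι.toRingHom.toAlgebra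
  haveI : IsScalarTower A₀ (A₀ ⊗[k] R) (K ⊗[k] R) := IsScalarTower.of_algebraMap_eq fun a => by
    show (algebraMap A₀ K a) ⊗ₜ[k] (1 : R) = ι (a ⊗ₜ[k] (1 : R))
    simp [ι]
  haveI := IsLocalization.tensorProduct_tensorProduct k R M K (by
    ext r
    show ι ((1 : A₀) ⊗ₜ[k] r) = (1 : K) ⊗ₜ[k] r
    simp [ι])
  haveI : IsNoetherianRing (K ⊗[k] R) := H02CA.isNoetherianRing_tensor_of_essFiniteType k R K
  let P₀ := P.comap (algebraMap (A₀ ⊗[k] R) (K ⊗[k] R))
  haveI : IsLocalization.AtPrime (Localization.AtPrime P) P₀ :=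
    IsLocalization.isLocalization_isLocalization_atPrime_isLocalization (Algebra.algebraMapSubmonoid _ M) _ P
  haveI : IsNoetherianRing (A₀ ⊗[k] R) := H02CA.isNoetherianRing_tensor_of_essFiniteType k R A₀
  have hcomap : P₀.comap (Algebra.TensorProduct.includeLeftRingHom : A₀ →+* A₀ ⊗[k] R) =
      (⊥ : Ideal K).comap (algebraMap A₀ K) := by
    ext a
    show ι (a ⊗ₜ[k] (1 : R)) ∈ P ↔ algebraMap A₀ K a ∈ (⊥ : Ideal K)
    rw [show ι (a ⊗ₜ[k] (1 : R)) = algebraMap K (K ⊗[k] R) (algebraMap A₀ K a) by simp [ι]]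
    rcases eq_or_ne (algebraMap A₀ K a) 0 with h | h
    · simp [h]
    · simp only [Ideal.mem_bot, h, iff_false]
      exact fun hmem => (inferInstance : P.IsPrime).ne_top (Ideal.eq_top_of_isUnit_mem _ hmem ((isUnit_iff_ne_zero.mpr h).map _))
  haveI : IsLocalization.AtPrime K (P₀.comap (Algebra.TensorProduct.includeLeftRingHom : A₀ →+* A₀ ⊗[k] R)) := by
    have : (P₀.comap (Algebra.TensorProduct.includeLeftRingHom : A₀ →+* A₀ ⊗[k] R)).primeCompl = M := by
      ext a
      rw [hM]
      show ¬ a ∈ P₀.comap _ ↔ IsUnit (algebraMap A₀ K a)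
      rw [hcomap, Ideal.mem_comap, Ideal.mem_bot, isUnit_iff_ne_zero]
    show IsLocalization _ K
    rw [this]
    infer_instance
  exact (isCI_congr (IsLocalization.algEquiv P₀.primeCompl (Localization.AtPrime P₀) (Localization.AtPrime P)).toRingEquiv).mp
    (isCI_tensor_of_field_point (K := K) hR P₀)

/-- Complete intersection rings and finitely generated extensions of the base field. -/
theorem isCI_tensor_essFiniteType {k K R : Type u} [Field k] [Field K] [Algebra k K] [Algebra.EssFiniteType k K]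
    [CommRing R] [Algebra k R] [IsNoetherianRing R]
    (hR : ∀ (p : Ideal R) [p.IsPrime], Pi1.IsCompleteIntersection (Localization.AtPrime p))
    (P : Ideal (K ⊗[k] R)) [P.IsPrime] : Pi1.IsCompleteIntersection (Localization.AtPrime P) := by
  haveI : IsLocalization (Algebra.EssFiniteType.submonoid k K) K := Algebra.EssFiniteType.isLocalization k K
  exact isCI_tensor_of_localization (Algebra.EssFiniteType.submonoid k K) Iff.rfl hR P

end Groth.Agent.H13CI
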