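import Groth.Agent.S16424

/-!
Flat families of torsion-free modules are free in fibre dimension at most one.
-/

set_option backward.isDefEq.respectTransparency false

universe u

open CategoryTheory CategoryTheory.Limits AlgebraicGeometry TopologicalSpace

namespace Groth.Agent.H13HartogsFree

theorem exists_free_nhd {T S : Scheme.{u}} (g : T ⟶ S) [Smooth g] (F : T.Modules) (hfp : CohB1.IsFP F)
    (hfl : FlatMod.IsFlatOver g F)
    (htf : ∀ s : ↥S, TorSh.IsTorsionFree ((Scheme.Modules.pullback (g.fiberι s)).obj F))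
    (x : T) (hx : ringKrullDim ↑(CInt.fiberStalk g x) ≤ 1) :
    ∃ (V : T.Opens) (n : ℕ), x ∈ V ∧ Nonempty (F.restrict V.ι ≅ FlatMod.freeMod (↑V) n) := by
  let z := g.asFiber x
  have hz : g.fiberι (g x) z = x := g.fiberι_asFiber x
  haveI : Smooth (g.fiberToSpecResidueField (g x)) := MorphismProperty.pullback_snd _ _ inferInstance
  haveI : IsRegularLocalRing ((g.fiber (g x)).presheaf.stalk z) :=
    H19Grp.isRegularLocalRing_stalk_of_smooth (k := S.residueField (g x))
      (g.fiberToSpecResidueField (g x)) z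
  let F' := (Scheme.Modules.pullback (g.fiberι (g x))).obj F
  have hF : Coh.IsQCoh F := H29Fitt.isQCoh_of_isFP F hfp
  have hF' : Coh.IsQCoh F' := H29Fitt.isQCoh_pullback _ F hF
  haveI := H8Props.FunDescent.finite_stalk_of_isFT F' hF'
    (H29Fitt.isFT_pullback _ F hF (H29Fitt.isFT_of_isFP F hfp)) z
  haveI : Module.IsTorsionFree ((g.fiber (g x)).presheaf.stalk z) (F'.presheaf.stalk z) := htf (g x) z
  haveI := S16424.free_of_torsionFree (R := (g.fiber (g x)).presheaf.stalk z) hx (F'.presheaf.stalk z)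
  have h1 := H8Props.FreeLocus.stalkFree_of_fibre g F hfp z (hfl _)
    (p := Module.finrank ((g.fiber (g x)).presheaf.stalk z) (F'.presheaf.stalk z))
    ⟨Module.finBasis _ _⟩
  rw [hz] at h1
  obtain ⟨V, hxV, e⟩ := H8Props.FunDescent.isFreeOfRankNear_of_stalkFree_of_isFP F hfp h1
  exact ⟨V, _, hxV, e⟩

end Groth.Agent.H13HartogsFree
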