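import Groth.Agent.H13CI.Syntomic
import Groth.Agent.H05EGA4.SerreCond
import Groth.Agent.H02CA.SkDescent
import Groth.Agent.H13AlgSp.EtaleLocally

/-!
# Cohen–Macaulay and `(S_k)` are local in the syntomic topology
-/

set_option autoImplicit false
set_option linter.style.haveILetI false

universe u

open CategoryTheory CategoryTheory.Limits AlgebraicGeometry IsLocalRing

namespace Groth.Agent.H13CI

/-- Complete intersections are Cohen–Macaulay. -/
theorem isCM_of_isCI (A : Type u) [CommRing A] [IsLocalRing A] [IsNoetherianRing A]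
    (h : Pi1.IsCompleteIntersection A) : LocCoh.IsCohenMacaulayLocalRing A := by
  obtain ⟨B, _, _, rs, hrs, hreg, ⟨e⟩⟩ := h
  haveI := H05EGA4.isNoetherianRing_adicCompletion A (maximalIdeal A)
  suffices LocCoh.IsCohenMacaulayLocalRing (AdicCompletion (maximalIdeal A) A) from
    ((H8Props.FlatDepth.isCohenMacaulayLocalRing_iff A (AdicCompletion (maximalIdeal A) A)).mp this).1
  have hcm := (H4Depth.isCohenMacaulayLocalRing_of_regular B).supportDim_eq_depth
  obtain ⟨hM, -⟩ := (H05EGA4.DepthMisc.isCM_main _ hrs B hcm).1 hreg.toIsWeaklyRegular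
  have hI : (Ideal.ofList rs • ⊤ : Submodule B B) = Ideal.ofList rs := by rw [smul_eq_mul, Ideal.mul_top]
  rw [hI] at hM
  haveI : Nontrivial (B ⧸ Ideal.ofList rs) := H4Depth.IsCM.nontrivial hM
  haveI : IsLocalRing (B ⧸ Ideal.ofList rs) := IsLocalRing.of_surjective' _ Ideal.Quotient.mk_surjective
  have hT : LocCoh.IsCohenMacaulayLocalRing (B ⧸ Ideal.ofList rs) := by
    rw [H8Props.FlatDepth.isCM_iff_dim, ← Module.supportDim_quotient_eq_ringKrullDim]
    unfold LocCoh.IsCohenMacaulayModule at hM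
    rw [hM]
    exact congrArg _ (H8Props.FlatDepth.depth_eq_of_surjective (R := B) (S := B ⧸ Ideal.ofList rs)
      (M := B ⧸ Ideal.ofList rs) Ideal.Quotient.mk_surjective).symm
  exact H8Props.CMAt.isCohenMacaulayLocalRing_of_ringEquiv e.symm

/-- Complete intersections satisfy every condition `(S_n)`. -/
theorem rsLocal_of_isCI (A : Type u) [CommRing A] [IsLocalRing A] [IsNoetherianRing A]
    (h : Pi1.IsCompleteIntersection A) (n : WithBot ℕ∞) : H05EGA4.RSLocal ⊥ n A := by
  haveI := isCM_of_isCI A h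
  refine ⟨fun hd => absurd (le_bot_iff.mp hd) ?_, (min_le_right _ _).trans ?_⟩
  · exact fun hb => by
      have := ringKrullDim_nonneg_of_nontrivial (R := A)
      rw [hb] at this
      exact absurd (le_bot_iff.mp this) (by simp)
  · exact ((H8Props.FlatDepth.isCM_iff_dim (R := A)).mp inferInstance).le

variable {X S : Scheme.{u}}

/-- Pointwise ascent along a syntomic morphism. -/
theorem rsLocal_stalk (f : X ⟶ S) (hf : Synt.IsSyntomicMor f) [IsLocallyNoetherian S] (n : WithBot ℕ∞) (y : X)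
    (hs : H05EGA4.RSLocal ⊥ n (S.presheaf.stalk (f y))) : H05EGA4.RSLocal ⊥ n (X.presheaf.stalk y) := by
  obtain ⟨h1, h2, h3⟩ := (isSyntomicMor_iff_isCIMorphism f).mp hf
  haveI := h1
  haveI := h2
  haveI : IsLocallyNoetherian X := LocallyOfFiniteType.isLocallyNoetherian f
  letI := (f.stalkMap y).hom.toAlgebra
  haveI : Module.Flat (S.presheaf.stalk (f y)) (X.presheaf.stalk y) := Flat.stalkMap f y
  haveI : IsLocalHom (algebraMap (S.presheaf.stalk (f y)) (X.presheaf.stalk y)) :=
    inferInstanceAs (IsLocalHom (f.stalkMap y).hom)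
  haveI : Nontrivial (X.presheaf.stalk y ⧸ (maximalIdeal (S.presheaf.stalk (f y))).map (algebraMap _ (X.presheaf.stalk y))) :=
    Ideal.Quotient.nontrivial_iff.mpr (ne_top_of_le_ne_top (maximalIdeal.isMaximal _).ne_top (map_maximalIdeal_le _))
  haveI : IsLocalRing (X.presheaf.stalk y ⧸ (maximalIdeal (S.presheaf.stalk (f y))).map (algebraMap _ (X.presheaf.stalk y))) :=
    .of_surjective' _ Ideal.Quotient.mk_surjective
  exact H05EGA4.RSLocal.of_flat hs (rsLocal_of_isCI _ ((isCI_fiberStalk_iff f y).mpr (h3 y)) n)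

/-- `(S_k)` of a stalk concerns the stalks at generisations. -/
theorem hasSk_stalk_of_forall [IsLocallyNoetherian X] (k : ℕ) (x : X)
    (h : ∀ y : X, H05EGA4.RSLocal ⊥ (k : WithBot ℕ∞) (X.presheaf.stalk y)) :
    LocCoh.HasSk k (X.presheaf.stalk x) (X.presheaf.stalk x) := by
  obtain ⟨U, (hU : IsAffineOpen U), hxU, -⟩ := TopologicalSpace.Opens.isBasis_iff_nbhd.mp X.isBasis_affineOpens
    (show x ∈ (⊤ : X.Opens) from trivial)
  haveI : IsNoetherianRing Γ(X, U) := IsLocallyNoetherian.component_noetherian ⟨U, hU⟩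
  letI := X.presheaf.algebra_section_stalk (⟨x, hxU⟩ : U)
  haveI := hU.isLocalization_stalk ⟨x, hxU⟩
  have hRS : H05EGA4.RS ⊥ (k : WithBot ℕ∞) Γ(X, U) := by
    intro p _
    have hy : hU.fromSpec ⟨p, inferInstance⟩ ∈ U := hU.range_fromSpec.subset ⟨_, rfl⟩
    letI := X.presheaf.algebra_section_stalk (⟨_, hy⟩ : U)
    haveI := hU.isLocalization_stalk ⟨_, hy⟩
    have he : (hU.primeIdealOf ⟨_, hy⟩).asIdeal = p :=
      congrArg PrimeSpectrum.asIdeal (hU.fromSpec.isOpenEmbedding.injective (hU.fromSpec_primeIdealOf _) :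
        hU.primeIdealOf ⟨_, hy⟩ = ⟨p, inferInstance⟩)
    exact (H05EGA4.rsLocal_congr he).mp (H05EGA4.RSLocal.of_ringEquiv
      (IsLocalization.algEquiv (hU.primeIdealOf ⟨_, hy⟩).asIdeal.primeCompl (X.presheaf.stalk (hU.fromSpec ⟨p, inferInstance⟩))
        (Localization.AtPrime (hU.primeIdealOf ⟨_, hy⟩).asIdeal)).toRingEquiv (h _))
  exact H05EGA4.hasSk_self_iff_rs.mpr (hRS.of_isLocalization (hU.primeIdealOf ⟨x, hxU⟩).asIdeal.primeCompl _)

/-- `(S_k)` at all stalks gives the pointwise condition. -/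
theorem rsLocal_of_hasSk [IsLocallyNoetherian X] (k : ℕ) (x : X)
    (h : LocCoh.HasSk k (X.presheaf.stalk x) (X.presheaf.stalk x)) :
    H05EGA4.RSLocal ⊥ (k : WithBot ℕ∞) (X.presheaf.stalk x) := by
  have h' := (H05EGA4.hasSk_self_iff_rs.mp h) (maximalIdeal (X.presheaf.stalk x))
  haveI : IsLocalization.AtPrime (X.presheaf.stalk x) (maximalIdeal (X.presheaf.stalk x)) :=
    IsLocalization.self fun z hz => by simpa [IsUnit.mem_submonoid_iff] using hz
  exact H05EGA4.RSLocal.of_ringEquiv (IsLocalization.algEquiv (maximalIdeal (X.presheaf.stalk x)).primeCompl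
    (Localization.AtPrime (maximalIdeal (X.presheaf.stalk x))) (X.presheaf.stalk x)).toRingEquiv h'

/-- The stalk map of a flat morphism is faithfully flat. -/
theorem faithfullyFlat_stalkMap (f : X ⟶ S) [Flat f] (x : X) :
    letI := (f.stalkMap x).hom.toAlgebra
    Module.FaithfullyFlat (S.presheaf.stalk (f x)) (X.presheaf.stalk x) := by
  letI := (f.stalkMap x).hom.toAlgebra
  haveI : Module.Flat (S.presheaf.stalk (f x)) (X.presheaf.stalk x) := Flat.stalkMap f x
  haveI : IsLocalHom (algebraMap (S.presheaf.stalk (f x)) (X.presheaf.stalk x)) :=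
    inferInstanceAs (IsLocalHom (f.stalkMap x).hom)
  exact Module.FaithfullyFlat.of_flat_of_isLocalHom

/-- Local Noetherianity descends along a jointly surjective syntomic family. -/
theorem isLocallyNoetherian_of_cover {ι : Type u} {X : ι → Scheme.{u}} (f : ∀ i, X i ⟶ S)
    (hsurj : ∀ s : S, ∃ i, s ∈ Set.range (f i).base) (hsyn : ∀ i, Synt.IsSyntomicMor (f i))
    (h : ∀ i, IsLocallyNoetherian (X i)) : IsLocallyNoetherian S := by
  haveI : ∀ i, Flat (f i) := fun i => (flat_lfp_of_isSyntomicMor (hsyn i)).1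
  haveI : ∀ i, LocallyOfFinitePresentation (f i) := fun i => (flat_lfp_of_isSyntomicMor (hsyn i)).2
  haveI : Flat (Sigma.desc f) := IsZariskiLocalAtSource.sigmaDesc fun i => inferInstance
  haveI : LocallyOfFinitePresentation (Sigma.desc f) := IsZariskiLocalAtSource.sigmaDesc fun i => inferInstance
  haveI : Surjective (Sigma.desc f) := ⟨fun s => by
    obtain ⟨i, z, rfl⟩ := hsurj s
    exact ⟨Sigma.ι X i z, by rw [← Scheme.Hom.comp_apply, Sigma.ι_desc]⟩⟩
  haveI : IsLocallyNoetherian (∐ X) := by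
    haveI : ∀ i, IsLocallyNoetherian ((sigmaOpenCover X).X i) := h
    exact (isLocallyNoetherian_iff_openCover (sigmaOpenCover X)).mpr fun i => h i
  exact H13AlgSp.isLocallyNoetherian_of_flat_lfp_surjective (Sigma.desc f)

end Groth.Agent.H13CI
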